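import Cfsg.Prelude.Def_CaseTheorems
import Cfsg.Agent.Lib.Invol.Sylow2
import Cfsg.Agent.Lib.PGrp.Cyclic
import Cfsg.Agent.Lib.Core.Basic

/-! Sectional 2-rank through subgroups containing all squares. -/

set_option autoImplicit false
set_option linter.unusedSectionVars false

namespace Cfsg.Lib.SRank

open Subgroup Cfsg.Lib.Invol
open scoped commutatorElement

variable {G : Type*} [Group G] [Finite G]

/-- In every subgroup `H` of `S`, a subgroup containing the squares of `H` has relative index at most `k`. -/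
def SR (k : ℕ) (S : Subgroup G) : Prop :=
  ∀ H ≤ S, ∀ K : Subgroup G, (∀ h ∈ H, h * h ∈ K) → K.relIndex H ≤ k

theorem rel_ne (H K : Subgroup G) : H.relIndex K ≠ 0 := index_ne_zero_of_finite

theorem comm_mem {H K : Subgroup G} (h : ∀ x ∈ H, x * x ∈ K) {a b : G} (ha : a ∈ H) (hb : b ∈ H) :
    a * b * a⁻¹ * b⁻¹ ∈ K := by
  have := mul_mem (mul_mem (h a ha) (h _ (mul_mem (inv_mem ha) hb))) (h _ (inv_mem hb))
  convert this using 1; group

theorem rel_le_card {K H : Subgroup G} {ι : Type*} [Finite ι] (f : H → ι)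
    (hf : ∀ a b : H, f a = f b → (a : G)⁻¹ * b ∈ K) : K.relIndex H ≤ Nat.card ι :=
  Nat.card_le_card_of_injective (fun q : H ⧸ K.subgroupOf H => f q.out) fun q r e => by
    rw [← q.out_eq', ← r.out_eq', QuotientGroup.eq]; exact hf _ _ e

theorem rel_le (K C H : Subgroup G) : K.relIndex H ≤ K.relIndex (C ⊓ H) * C.relIndex H := by
  rw [relIndex_inf_mul_relIndex]; exact relIndex_le_of_le_left inf_le_left (rel_ne _ _)

theorem rel_mono {C H S : Subgroup G} (h : H ≤ S) : C.relIndex H ≤ C.relIndex S :=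
  relIndex_le_of_le_right h (rel_ne _ _)

theorem rel_le_card' (K H : Subgroup G) : K.relIndex H ≤ Nat.card H :=
  Nat.le_of_dvd Nat.card_pos (relIndex_dvd_card K H)

theorem card_mono {H K : Subgroup G} (h : H ≤ K) : Nat.card H ≤ Nat.card K := card_le_of_le h

theorem SR.of_rel {k m : ℕ} {C S : Subgroup G} (h : SR k C) (hm : C.relIndex S ≤ m) : SR (k * m) S :=
  fun H hH K hK => (rel_le K C H).trans
    (Nat.mul_le_mul (h _ inf_le_left K fun x hx => hK x hx.2) ((rel_mono hH).trans hm))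

theorem SR.mono {k : ℕ} {C S : Subgroup G} (h : SR k S) (hC : C ≤ S) : SR k C := fun H hH => h H (hH.trans hC)

theorem sr_zpowers (r : G) : SR 2 (zpowers r) := fun H hH K hK => by
  classical
  haveI : IsCyclic H := isCyclic_of_le hH
  obtain ⟨⟨g, hg⟩, hz⟩ := IsCyclic.exists_generator (α := H)
  have key : ∀ a ∈ H, a ∉ K → g⁻¹ * a ∈ K := fun a ha hn => by
    obtain ⟨k, hk⟩ := hz ⟨a, ha⟩
    have hk : g ^ k = a := by simpa using congrArg Subtype.val hk
    subst hk
    rcases Int.even_or_odd' k with ⟨j, rfl | rfl⟩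
    · exact absurd (by rw [zpow_mul]; exact zpow_mem (by rw [zpow_two]; exact hK g hg) j) hn
    · rw [add_comm, zpow_add, zpow_one, inv_mul_cancel_left, zpow_mul]
      exact zpow_mem (by rw [zpow_two]; exact hK g hg) j
  refine (rel_le_card (ι := Bool) (fun a => decide ((a : G) ∈ K)) fun a b e => ?_).trans (by simp)
  by_cases ha : (a : G) ∈ K
  · have hb : (b : G) ∈ K := by simpa [ha] using e
    exact mul_mem (inv_mem ha) hb
  · have hb : (b : G) ∉ K := by simpa [ha] using e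
    have := mul_mem (inv_mem (key a a.2 ha)) (key b b.2 hb)
    convert this using 1; group

/-- the sectional rank of a group is read in a Sylow subgroup -/
theorem sec_of {k : ℕ} (P : Sylow 2 G) (h : SR (2 ^ k) (P : Subgroup G)) : SectionalPRankLE 2 k G := by
  intro H N _ A _ hA
  haveI := fact_two
  let φ : A.comap (QuotientGroup.mk' N) →* A := (QuotientGroup.mk' N).subgroupComap A
  have hφ : Function.Surjective φ := MonoidHom.subgroupComap_surjective_of_surjective _ _ (QuotientGroup.mk'_surjective N)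
  obtain ⟨Q⟩ : Nonempty (Sylow 2 (A.comap (QuotientGroup.mk' N))) := inferInstance
  have hA2 : IsPGroup 2 A := isPGroup_of_forall fun x hx => ⟨1, by simpa using hA x hx⟩
  have hQ : (Q : Subgroup _).map φ = ⊤ :=
    ((Q.mapSurjective hφ).3 (hA2.to_subgroup ⊤) le_top).symm
  let ι₀ := H.subtype.comp (A.comap (QuotientGroup.mk' N)).subtype
  obtain ⟨g, hg⟩ := exists_conj_le_sylow P (Q.2.map ι₀)
  let ι := (MulAut.conj g).toMonoidHom.comp ι₀
  have hι : Function.Injective ι :=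
    (MulAut.conj g).injective.comp (Subtype.val_injective.comp Subtype.val_injective)
  have := h ((Q : Subgroup _).map ι) (by rintro _ ⟨x, hx, rfl⟩; exact hg _ ⟨x, hx, rfl⟩) (φ.ker.map ι) (by
    rintro _ ⟨x, -, rfl⟩
    refine ⟨x * x, ?_, map_mul _ _ _⟩
    rw [SetLike.mem_coe, MonoidHom.mem_ker, map_mul, ← sq]
    exact Subtype.ext (hA _ (φ x).2))
  rwa [relIndex_map_map_of_injective _ _ hι, relIndex_ker, hQ, card_top] at this

/-- `[A, s] ≤ K` for an elementary abelian `A` normalized by `s` -/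
theorem rel_le_fixed {A K : Subgroup G} {s : G} (hc : ∀ a ∈ A, ∀ b ∈ A, a * b = b * a)
    (hs : ∀ a ∈ A, s * a * s⁻¹ ∈ A) (hK : ∀ a ∈ A, s * a * s⁻¹ * a⁻¹ ∈ K) :
    K.relIndex A ≤ Nat.card ↥(A ⊓ centralizer {s}) := by
  let φ : A →* A := MonoidHom.mk' (fun a => ⟨s * a * s⁻¹ * (a : G)⁻¹, mul_mem (hs a a.2) (inv_mem a.2)⟩) fun a b => by
    ext
    have := hc _ (inv_mem a.2) _ (mul_mem (hs b b.2) (inv_mem b.2))
    simp only [coe_mul]
    calc s * (a * b) * s⁻¹ * ((a : G) * b)⁻¹ = s * a * s⁻¹ * ((s * b * s⁻¹ * (b : G)⁻¹) * (a : G)⁻¹) := by group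
      _ = _ := by rw [← this]; group
  have h1 : φ.range ≤ K.subgroupOf A := by rintro _ ⟨a, rfl⟩; exact hK a a.2
  have h2 : φ.ker = (centralizer {s}).subgroupOf A := by
    ext a
    rw [MonoidHom.mem_ker, mem_subgroupOf, mem_centralizer_singleton_iff, Subtype.ext_iff]
    change s * a * s⁻¹ * (a : G)⁻¹ = 1 ↔ _
    rw [mul_inv_eq_one, mul_inv_eq_iff_eq_mul, eq_comm]
  refine (index_antitone h1).trans ?_
  rw [index_range, h2, ← inf_subgroupOf_left, Nat.card_congr (subgroupOfEquivOfLe inf_le_left).toEquiv]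

theorem central_mod {P M L : Subgroup G} (hP : IsPGroup 2 P) (hL : L ≤ P) (hM : P ≤ normalizer (M : Set G))
    (hL' : P ≤ normalizer (L : Set G)) (h : ¬ L ≤ M) : ∃ x ∈ L, x ∉ M ∧ x ^ 2 ∈ M ∧ ∀ g ∈ P, ⁅x, g⁆ ∈ M := by
  haveI := fact_two
  haveI := normal_subgroupOf_of_le_normalizer hM
  haveI := normal_subgroupOf_of_le_normalizer hL'
  obtain ⟨x, h1, h2, h3, h4⟩ := PGrp.exists_mem_central_mod hP (M.subgroupOf P) (L.subgroupOf P)
    fun e => h fun y hy => e (show (⟨y, hL hy⟩ : P) ∈ L.subgroupOf P from hy)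
  exact ⟨x, h1, h2, h3, fun g hg => h4 ⟨g, hg⟩⟩

theorem exists_norm_sq {T S : Subgroup G} (hS : IsPGroup 2 S) (h : T ≤ S) (hne : T ≠ S) :
    ∃ s ∈ S, s ∉ T ∧ s ∈ normalizer (T : Set G) ∧ s * s ∈ T := by
  haveI := fact_two
  obtain ⟨x, h1, h2, h3⟩ := exists_mem_normalizer_not_mem hS h hne
  obtain ⟨n, hn⟩ := pow_eq_one_of_mem hS h1
  obtain ⟨k, h4, h5⟩ := PGrp.exists_pow_not_mem_pow_mem hn h2
  exact ⟨_, pow_mem h1 k, h4, pow_mem h3 k, by rwa [← sq]⟩

end Cfsg.Lib.SRank
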