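import Cfsg.Agent.Lib.SRank.Basic

/-! A 2-group with an `E₁₆` that is the centralizer of each involution of one of its four-subgroups. -/

set_option autoImplicit false
set_option linter.unusedSectionVars false

namespace Cfsg.Lib.SRank

open Subgroup Cfsg.Lib.Invol Cfsg.Lib.Core
open scoped commutatorElement

variable {G : Type*} [Group G] [Finite G]

local notation "𝐍" H => normalizer ((H : Subgroup G) : Set G)

theorem conj_mem {A : Subgroup G} {g a : G} (hg : g ∈ 𝐍 A) (ha : a ∈ A) : g * a * g⁻¹ ∈ A :=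
  (mem_normalizer_iff.1 hg a).1 ha

theorem mem_norm {A : Subgroup G} {g : G} (h : ∀ a ∈ A, g * a * g⁻¹ ∈ A) : g ∈ 𝐍 A := mem_normalizer_fintype h

theorem comm_of_sq {A : Subgroup G} (h : ∀ a ∈ A, a * a = 1) : ∀ a ∈ A, ∀ b ∈ A, a * b = b * a := fun a ha b hb => by
  have := comm_mem (K := ⊥) (fun x hx => mem_bot.2 (h x hx)) ha hb
  rw [mem_bot, mul_inv_eq_one, mul_inv_eq_iff_eq_mul] at this; exact this

theorem le_or_le {E A B : Subgroup G} (h : ∀ x ∈ E, x ∈ A ∨ x ∈ B) : E ≤ A ∨ E ≤ B := by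
  by_contra hn
  push_neg at hn
  obtain ⟨a, ha, ha'⟩ := SetLike.not_le_iff_exists.1 hn.1
  obtain ⟨b, hb, hb'⟩ := SetLike.not_le_iff_exists.1 hn.2
  rcases h _ (mul_mem ha hb) with e | e
  · exact ha' ((mul_mem_cancel_right ((h b hb).resolve_right hb')).1 e)
  · exact hb' ((mul_mem_cancel_left ((h a ha).resolve_left ha')).1 e)

structure E16 (S A B : Subgroup G) : Prop where
  two : IsPGroup 2 S
  le : A ≤ S
  sq : ∀ a ∈ A, a * a = 1
  card : Nat.card A = 16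
  leB : B ≤ A
  cardB : Nat.card B = 4
  cent : ∀ b ∈ B, b ≠ 1 → ∀ s ∈ S, s * b = b * s → s ∈ A

namespace E16
variable {S A B : Subgroup G} (h : E16 S A B)
include h

theorem small {Y : Subgroup G} (hY : Y ≤ A) (hB : Y ⊓ B = ⊥) : Nat.card Y ≤ 4 := by
  have h1 := card_inf_mul_relIndex B Y
  have h2 := card_mul_relIndex h.leB
  have h3 := rel_mono (C := B) hY
  rw [inf_comm, hB, card_bot] at h1
  rw [h.card, h.cardB] at h2
  omega

theorem fix_le {s : G} (hs : s ∈ S) (hA : s ∉ A) : Nat.card ↥(A ⊓ centralizer {s}) ≤ 4 :=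
  h.small inf_le_left (eq_bot_iff.2 fun b hb => Classical.by_contradiction fun e =>
    hA (h.cent b hb.2 e s hs (mem_centralizer_singleton_iff.1 hb.1.2).symm))

theorem leN : A ≤ S ⊓ 𝐍 A := le_inf h.le le_normalizer

theorem relN : A.relIndex (S ⊓ 𝐍 A) ≤ 4 := by
  obtain ⟨Y, ⟨h1, h2, h3⟩, -, hm⟩ := PGrp.exists_maximal_subgroup_ge
    (fun Y : Subgroup G => Y ≤ A ∧ S ⊓ (𝐍 A) ≤ (𝐍 Y) ∧ Y ⊓ B = ⊥) (A := ⊥)
    ⟨bot_le, le_normalizer_of_normal, bot_inf_eq _⟩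
  have hc := h.small h1 h3
  obtain ⟨x, hx, hxY, -, hxc⟩ := central_mod (h.two.to_le inf_le_left) h.leN h2 inf_le_right
    fun e => by have := card_mono e; rw [h.card] at this; omega
  have hxn : x ∈ 𝐍 Y := h2 (h.leN hx)
  have hc' : ∀ y ∈ Y ⊔ zpowers x, ∀ g ∈ S ⊓ 𝐍 A, g * y * g⁻¹ * y⁻¹ ∈ Y := fun y hy g hg => by
    obtain ⟨a, ha, k, rfl⟩ := (PGrp.mem_sup_zpowers_of_mem_normalizer hxn).1 hy
    have h4 : g * x * g⁻¹ * x⁻¹ ∈ Y := by
      have := inv_mem (hxc g hg); rwa [commutatorElement_inv, commutatorElement_def] at this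
    have h5 : x ^ k = 1 ∨ x ^ k = x := by
      have e : x ^ (2 : ℤ) = 1 := by rw [zpow_two]; exact h.sq x hx
      rcases Int.even_or_odd' k with ⟨j, rfl | rfl⟩
      · left; rw [zpow_mul, e, one_zpow]
      · right; rw [zpow_add, zpow_mul, e, one_zpow, one_mul, zpow_one]
    rcases h5 with e | e <;> rw [e]
    · simpa using mul_mem (conj_mem (h2 hg) ha) (inv_mem ha)
    · have := mul_mem (mul_mem (conj_mem (h2 hg) ha) h4) (inv_mem (conj_mem hxn ha))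
      convert this using 1
      rw [← comm_of_sq h.sq _ (h1 ha) _ hx]; group
  have hne : (Y ⊔ zpowers x) ⊓ B ≠ ⊥ := fun e => hxY (hm _ ⟨sup_le h1 (zpowers_le.2 hx), fun g hg => mem_norm fun y hy => by
    simpa using mul_mem (mem_sup_left (hc' y hy g hg)) hy, e⟩ le_sup_left ▸ mem_sup_right (mem_zpowers x))
  obtain ⟨⟨b, hb⟩, hb1⟩ := ne_bot_iff_exists_ne_one.1 hne
  refine (rel_le_card (fun g => (⟨_, hc' b hb.1 g g.2⟩ : Y)) fun f g e => ?_).trans hc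
  have e : f * b * (f : G)⁻¹ = g * b * (g : G)⁻¹ := by simpa using congrArg Subtype.val e
  refine h.cent b hb.2 (fun e => hb1 (Subtype.ext e)) _ (mul_mem (inv_mem f.2.1) g.2.1) ?_
  calc (f : G)⁻¹ * g * b = (f : G)⁻¹ * (g * b * (g : G)⁻¹) * g := by group
    _ = _ := by rw [← e]; group

theorem rel_fix {H K : Subgroup G} (hH : H ≤ S) (hK : ∀ x ∈ H, x * x ∈ K) {s : G} (hs : s ∈ H) (hA : s ∉ A)
    (hn : s ∈ 𝐍 A) : K.relIndex (A ⊓ H) ≤ 4 :=
  (rel_le_fixed (A := A ⊓ H) (s := s) (fun a ha b hb => comm_of_sq h.sq a ha.1 b hb.1)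
    (fun a ha => ⟨conj_mem hn ha.1, H.mul_mem (H.mul_mem hs ha.2) (H.inv_mem hs)⟩) fun a ha => comm_mem hK hs ha.2).trans
    ((card_mono (inf_le_inf_right _ inf_le_left)).trans (h.fix_le (hH hs) hA))

theorem srN : SR 16 (S ⊓ 𝐍 A) := fun H hH K hK => by
  by_cases e : H ≤ A
  · exact (rel_le_card' K H).trans ((card_mono e).trans h.card.le)
  obtain ⟨s, hs, hA⟩ := SetLike.not_le_iff_exists.1 e
  exact (rel_le K A H).trans (Nat.mul_le_mul (h.rel_fix (hH.trans inf_le_left) hK hs hA (hH hs).2)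
    ((rel_mono hH).trans h.relN))

/-- the second `E₁₆` -/
theorem second {A' : Subgroup G} (hN : A' ≤ S ⊓ 𝐍 A) (hne : A' ≠ A) (hsq : ∀ a ∈ A', a * a = 1) (hc : Nat.card A' = 16) :
    Nat.card ↥(A ⊓ A') ≤ 4 ∧ (∀ n ∈ S ⊓ 𝐍 A, n * n ∈ A) ∧ ∀ n ∈ S ⊓ 𝐍 A, n * n = 1 → n ∈ A ∨ n ∈ A' := by
  have hZ : ∀ t ∈ A', A ⊓ A' ≤ A ⊓ centralizer {t} := fun t ht a ha =>
    ⟨ha.1, mem_centralizer_singleton_iff.2 (comm_of_sq hsq _ ha.2 _ ht)⟩
  obtain ⟨t, ht, htA⟩ := SetLike.not_le_iff_exists.1 fun e : A' ≤ A => hne (PGrp.eq_of_le_of_card_le e (by rw [hc, h.card]))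
  have h1 := (card_mono (hZ t ht)).trans (h.fix_le (hN ht).1 htA)
  have h2 := card_sup_mul_card_inf' (hN.trans inf_le_right)
  have h3 := card_mul_relIndex h.leN
  have h4 := h.relN
  have h5 := card_mono (sup_le h.leN hN)
  rw [h.card, hc] at h2
  rw [h.card] at h3
  have h6 : Nat.card ↥(A ⊓ A') = 4 := by
    refine le_antisymm h1 ?_
    by_contra hl
    have : Nat.card ↥(A ⊔ A') * Nat.card ↥(A ⊓ A') ≤ 64 * 3 := Nat.mul_le_mul (by omega) (by omega)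
    omega
  have h7 : A ⊔ A' = S ⊓ 𝐍 A := PGrp.eq_of_le_of_card_le (sup_le h.leN hN) (by rw [h6] at h2; omega)
  have key : ∀ n ∈ S ⊓ 𝐍 A, ∃ a ∈ A, ∃ t ∈ A', a * t = n := fun n hn =>
    (mem_sup_of_le_normalizer_left (hN.trans inf_le_right)).1 (h7 ▸ hn)
  have hi : ∀ t ∈ A', t⁻¹ = t := fun t ht => inv_eq_of_mul_eq_one_right (hsq t ht)
  refine ⟨h1, fun n hn => ?_, fun n hn e => ?_⟩
  · obtain ⟨a, ha, t, ht, rfl⟩ := key n hn
    have := mul_mem ha (conj_mem (hN ht).2 ha)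
    rw [hi t ht] at this; convert this using 1; group
  · obtain ⟨a, ha, t, ht, rfl⟩ := key n hn
    by_cases htA : t ∈ A
    · exact .inl (mul_mem ha htA)
    have h8 : A ⊓ A' = A ⊓ centralizer {t} :=
      PGrp.eq_of_le_of_card_le (hZ t ht) ((h.fix_le (hN ht).1 htA).trans h6.ge)
    have : a ∈ A ⊓ A' := h8 ▸ ⟨ha, mem_centralizer_singleton_iff.2 (by
      rw [← inv_eq_of_mul_eq_one_right e, mul_inv_rev, hi t ht, inv_eq_of_mul_eq_one_right (h.sq a ha)])⟩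
    exact .inr (mul_mem this.2 ht)

theorem sr : SR 16 S := by
  haveI := fact_two
  set N := S ⊓ 𝐍 A with hNd
  by_cases hSN : N = S
  · exact hSN ▸ h.srN
  obtain ⟨e, heS, heN, hen⟩ := exists_mem_normalizer_not_mem h.two (inf_le_left : N ≤ S) hSN
  let c : G → Subgroup G := fun g => A.map (MulAut.conj g).toMonoidHom
  have hm : ∀ {g x}, x ∈ c g ↔ g⁻¹ * x * g ∈ A := mem_map_conj
  have hc : ∀ g, Nat.card (c g) = 16 := fun g => (card_map_conj A g).trans h.card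
  have hsq : ∀ g, ∀ a ∈ c g, a * a = 1 := by
    rintro g _ ⟨a, ha, rfl⟩; rw [← map_mul, h.sq a ha, map_one]
  have hcN : ∀ {M : Subgroup G}, A ≤ M → ∀ g ∈ 𝐍 M, c g ≤ M := by
    rintro M hM g hg _ ⟨a, ha, rfl⟩; exact conj_mem hg (hM ha)
  have hcA : ∀ g ∈ S, c g = A → g ∈ N := fun g hg e =>
    ⟨hg, mem_norm fun a ha => e ▸ (show g * a * g⁻¹ ∈ c g from ⟨a, ha, rfl⟩)⟩
  obtain ⟨hZ, hNsq, hinv⟩ := h.second (hcN h.leN e hen) (fun e' => heN (hcA e heS e')) (hsq e) (hc e)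
  have hE : ∀ E ≤ N, (∀ x ∈ E, x * x = 1) → E ≤ A ∨ E ≤ c e := fun E hE hs => le_or_le fun x hx => hinv x (hE hx) (hs x hx)
  have hE' : ∀ g, c g ≤ N → c g = A ∨ c g = c e := fun g hg => (hE _ hg (hsq g)).imp
    (fun e' => PGrp.eq_of_le_of_card_le e' (by rw [hc, h.card])) fun e' => PGrp.eq_of_le_of_card_le e' (by rw [hc, hc])
  have hcc : ∀ g ∈ S, c g = c e → e⁻¹ * g ∈ N := fun g hg e' => ⟨S.mul_mem (S.inv_mem heS) hg, mem_norm fun a ha => by
    have : g * a * g⁻¹ ∈ c e := e' ▸ ⟨a, ha, rfl⟩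
    convert hm.1 this using 1; group⟩
  have hin : ∀ g ∈ S, c g ≤ N → g ∈ N ∨ e⁻¹ * g ∈ N := fun g hg hl => (hE' g hl).imp (hcA g hg) (hcc g hg)
  -- elements of `N_S(N)` outside `N` swap `A` and `c e`
  have sw1 : ∀ g ∈ S ⊓ 𝐍 N, g ∉ N → ∀ a ∈ A, g * a * g⁻¹ ∈ c e := fun g hg hn a ha =>
    ((hE' g (hcN h.leN g hg.2)).resolve_left fun e' => hn (hcA g hg.1 e')) ▸ (show g * a * g⁻¹ ∈ c g from ⟨a, ha, rfl⟩)
  have sw2 : ∀ g ∈ S ⊓ 𝐍 N, g ∉ N → ∀ a ∈ c e, g * a * g⁻¹ ∈ A := fun g hg hn a ha => by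
    have h1 : c g⁻¹ = c e := (hE' _ (hcN h.leN _ (inv_mem hg).2)).resolve_left fun e' =>
      hn ((inv_mem_iff).1 (hcA _ (inv_mem hg).1 e'))
    have := hm.1 (show a ∈ c g⁻¹ from h1 ▸ ha)
    rwa [inv_inv] at this
  have hrel : N.relIndex (S ⊓ 𝐍 N) ≤ 2 := by
    classical
    refine (rel_le_card (ι := Bool) (fun a => decide ((a : G) ∈ N)) fun a b e' => ?_).trans (by simp)
    by_cases ha : (a : G) ∈ N
    · have hb : (b : G) ∈ N := by simpa [ha] using e'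
      exact mul_mem (inv_mem ha) hb
    · have hb : (b : G) ∉ N := by simpa [ha] using e'
      have := mul_mem (inv_mem ((hin a a.2.1 (hcN h.leN _ a.2.2)).resolve_left ha))
        ((hin b b.2.1 (hcN h.leN _ b.2.2)).resolve_left hb)
      convert this using 1; group
  have hN1 : N ≤ S ⊓ 𝐍 N := le_inf inf_le_left le_normalizer
  have hS : S ⊓ (𝐍 N) = S := by
    by_contra hne
    obtain ⟨f, hfS, hf, hfn⟩ := exists_mem_normalizer_not_mem h.two (inf_le_left : S ⊓ (𝐍 N) ≤ S) hne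
    have h1 := hcN (h.leN.trans hN1) f hfn
    by_cases h2 : c f ≤ N
    · rcases hin f hfS h2 with e' | e'
      · exact hf (hN1 e')
      · exact hf (by simpa using mul_mem (show e ∈ S ⊓ (𝐍 N) from ⟨heS, hen⟩) (hN1 e'))
    obtain ⟨g, hg, hgN⟩ := SetLike.not_le_iff_exists.1 h2
    have h3 : N ⊓ c f ≤ A ⊓ c e := fun x hx => by
      have e' : g * x * g⁻¹ = x := by rw [comm_of_sq (hsq f) _ hg _ hx.2]; group
      rcases hinv x hx.1 (hsq f x hx.2) with h4 | h4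
      · exact ⟨h4, e' ▸ sw1 g (h1 hg) hgN x h4⟩
      · exact ⟨e' ▸ sw2 g (h1 hg) hgN x h4, h4⟩
    have h4 := card_inf_mul_relIndex N (c f)
    have := Nat.mul_le_mul ((card_mono h3).trans hZ) ((rel_mono h1).trans hrel)
    rw [hc] at h4; omega
  rw [hS] at hrel sw1 sw2
  have h8 : A.relIndex S ≤ 8 := by
    rw [← relIndex_mul_relIndex A N S h.leN inf_le_left]; exact Nat.mul_le_mul h.relN hrel
  intro H hH K hK
  by_cases hHN : H ≤ N
  · exact h.srN H hHN K hK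
  obtain ⟨g, hg, hgN⟩ := SetLike.not_le_iff_exists.1 hHN
  have hg' : g⁻¹ ∉ N := fun e' => hgN (inv_mem_iff.1 e')
  have h8' := (rel_mono hH).trans h8
  have cj : ∀ x ∈ H, g * x * g⁻¹ ∈ H := fun x hx => mul_mem (mul_mem hg hx) (inv_mem hg)
  by_cases hA : A ⊓ H ≤ c e
  · have h4 : Nat.card ↥(A ⊓ H) ≤ 4 := (card_mono (le_inf inf_le_left hA)).trans hZ
    by_cases h2 : K.relIndex (A ⊓ H) ≤ 2
    · exact (rel_le K A H).trans (Nat.mul_le_mul h2 h8')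
    have h3 := card_inf_mul_relIndex K (A ⊓ H)
    have h5 : K ⊓ (A ⊓ H) = ⊥ := card_le_one_iff_eq_bot _ |>.1 (by
      by_contra hl
      have : 2 * 3 ≤ Nat.card ↥(K ⊓ (A ⊓ H)) * K.relIndex (A ⊓ H) := Nat.mul_le_mul (by omega) (by omega)
      omega)
    have h6 : N ⊓ H ≤ A ⊓ H := fun x hx => ⟨by
      have : x * x ∈ K ⊓ (A ⊓ H) := ⟨hK x hx.2, hNsq x hx.1, mul_mem hx.2 hx.2⟩
      rcases hinv x hx.1 (mem_bot.1 (h5 ▸ this)) with h7 | h7
      · exact h7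
      · simpa [mul_assoc] using sw2 g⁻¹ (inv_mem (hH hg)) hg' _ (hA ⟨sw2 g (hH hg) hgN x h7, cj x hx.2⟩), hx.2⟩
    have := Nat.mul_le_mul ((rel_le_card' K _).trans ((card_mono h6).trans h4)) ((rel_mono hH).trans hrel)
    exact (rel_le K N H).trans (this.trans (by norm_num))
  obtain ⟨a, ha, hae⟩ := SetLike.not_le_iff_exists.1 hA
  have ht := sw1 g (hH hg) hgN a ha.1
  have htA : g * a * g⁻¹ ∉ A := fun e' => hae (by simpa [mul_assoc] using sw1 g⁻¹ (inv_mem (hH hg)) hg' _ e')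
  have h1 := h.rel_fix hH hK (cj a ha.2) htA (hcN h.leN e hen ht).2
  have h2 := relIndex_inf_mul_relIndex K A H
  have h3 := relIndex_inf_mul_relIndex A K H
  have h4 : A.relIndex (K ⊓ H) ≠ 1 := fun e' => htA ((A.mul_mem_cancel_right (inv_mem ha).1).1
    (relIndex_eq_one.1 e' ⟨comm_mem hK hg ha.2, mul_mem (cj a ha.2) (inv_mem ha).2⟩))
  have h5 := rel_ne A (K ⊓ H)
  have h6 := Nat.mul_le_mul h1 h8'
  have h7 : 2 * K.relIndex H ≤ A.relIndex (K ⊓ H) * K.relIndex H := Nat.mul_le_mul_right _ (by omega)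
  rw [inf_comm A K, ← h2] at h3
  omega

end E16
end Cfsg.Lib.SRank
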