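import Cfsg.Agent.Lib.SRank.Mac1

/-! The four generator theorem of MacWilliams. -/

set_option autoImplicit false
set_option linter.unusedSectionVars false
set_option synthInstance.maxSize 5000
set_option synthInstance.maxHeartbeats 400000

namespace Cfsg.Lib.SRank

open Subgroup Cfsg.Lib.Invol Cfsg.Lib.Core

namespace Mc

abbrev V := ZMod 2 × ZMod 2
abbrev M := V × V
def ap (m : M) (v : V) : V := v.1 • m.1 + v.2 • m.2
def sg (v : V) : V := (v.1 + v.2, v.2)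
def ta (m : M) : M := (sg (ap m (sg (1, 0))), sg (ap m (sg (0, 1))))
def N1 : M := ((0, 0), (1, 0))
def om : M := ((0, 1), (1, 1))
def sing (m : M) : Prop := ∀ v, ap m v = v → v = 0
def free (m : M) : Prop := ∀ v, ap m v = 0 → v = 0
def dep (a b c : M) : Prop := a = 0 ∨ b = 0 ∨ b = a ∨ c = 0 ∨ c = a ∨ c = b ∨ c = a + b
instance (m : M) : Decidable (sing m) := by unfold sing; infer_instance
instance (m : M) : Decidable (free m) := by unfold free; infer_instance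
instance (a b c : M) : Decidable (dep a b c) := by unfold dep; infer_instance
theorem ap_add : ∀ m n v, ap (m + n) v = ap m v + ap n v := by decide +kernel
theorem ap_ta : ∀ m v, ap (ta m) v = sg (ap m (sg v)) := by decide +kernel
theorem ap_ext : ∀ m n : M, ap m (1, 0) = ap n (1, 0) → ap m (0, 1) = ap n (0, 1) → m = n := by decide +kernel
theorem ap_zero : ∀ v, ap 0 v = 0 := by decide +kernel
theorem d4 : ∀ a b c : M, dep a b c ∨
    ∃ w ∈ [a, b, c, a + b, a + c, b + c, a + b + c], w ≠ 0 ∧ sing w := by decide +kernel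
theorem d3 : ∀ a b c : M, dep a b c ∨
    ∃ w ∈ [a, b, c, a + b, a + c, b + c, a + b + c], w = N1 ∨ w + ta w = N1 := by decide +kernel
theorem d2 : ∀ a b : M, ta a = a → ta b = b → a ≠ N1 → b ≠ N1 → a + b ≠ N1 → a ≠ 0 → b = 0 ∨ b = a := by
  decide +kernel
theorem d1 : ∀ a : M, sing a → ta a ≠ a → free (a + ta a) ∧ sing (ta a) ∧ (a ≠ 0 → ta a ≠ 0) := by decide +kernel
theorem d0 : sing N1 ∧ ta N1 = N1 ∧ N1 ≠ 0 ∧ sing om ∧ free om ∧ om ≠ 0 := by decide +kernel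
theorem surj1 : ∀ a : M, sing a → ∀ w, ∃ v, v + ap a v = w := by decide +kernel
theorem surj2 : ∀ a : M, free a → ∀ w, ∃ v, ap a v = w := by decide +kernel
theorem fixta : (Finset.univ.filter fun a : M => ta a = a).card = 4 := by decide +kernel
theorem card15 : (Finset.univ.filter fun a : M => a ≠ om).card = 15 := by decide +kernel
theorem mm : ∀ a : M, a + a = 0 := by decide +kernel
theorem mm' : ∀ a b : M, a + b = 0 → a = b := by decide +kernel
theorem vv' : ∀ a b : V, a + b = 0 → a = b := by decide +kernel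
theorem vcases : ∀ v : V, v = (0, 0) ∨ v = (1, 0) ∨ v = (0, 1) ∨ v = (1, 1) := by decide +kernel

variable {G : Type*} [Group G] [Finite G]

def pw (z : G) (a : ZMod 2) : G := if a = 0 then 1 else z

@[simp] theorem pw0 (z : G) : pw z 0 = 1 := if_pos rfl
@[simp] theorem pw1 (z : G) : pw z 1 = z := if_neg (by decide)

theorem pw_add {z : G} (hz : z * z = 1) (a b : ZMod 2) : pw z (a + b) = pw z a * pw z b := by
  have : ∀ a : ZMod 2, a = 0 ∨ a = 1 := by decide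
  rcases this a with rfl | rfl <;> rcases this b with rfl | rfl <;>
    simp [hz, show (1 + 1 : ZMod 2) = 0 from rfl]

theorem pw_mem {z : G} {H : Subgroup G} (hz : z ∈ H) (a : ZMod 2) : pw z a ∈ H := by
  unfold pw; split_ifs; exacts [one_mem _, hz]

def ps (z u : G) (v : V) : G := pw z v.1 * pw u v.2

end Mc

open Mc

variable {G : Type*} [Group G] [Finite G]

local notation "𝐂" A => centralizer ((A : Subgroup G) : Set G)

structure MC (B U : Subgroup G) (z u b₁ b₂ : G) : Prop extends AB B U where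
  cz : ∀ g : G, g * z * g⁻¹ = z
  z1 : z ≠ 1
  u1 : u ≠ 1
  uz : u ≠ z
  m1 : b₁ ∈ B
  m2 : b₂ ∈ B
  s1 : b₁ * b₁ = z
  s2 : b₂ * b₂ = u
  all : ∀ x ∈ U, x = 1 ∨ x = z ∨ x = u ∨ x = z * u

namespace MC

variable {B U : Subgroup G} {z u b₁ b₂ : G} (h : MC B U z u b₁ b₂)
include h

local notation "ψ" => ps z u

theorem zU : z ∈ U := h.s1 ▸ h.sq_mem h.m1
theorem uU : u ∈ U := h.s2 ▸ h.sq_mem h.m2
theorem psU (v : V) : ψ v ∈ U := mul_mem (pw_mem h.zU _) (pw_mem h.uU _)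
theorem psB (v : V) : ψ v ∈ B := h.UB (h.psU v)

theorem ps_add (v w : V) : ψ (v + w) = ψ v * ψ w := by
  have := h.comm _ (pw_mem (h.UB h.zU) w.1) _ (pw_mem (h.UB h.uU) v.2)
  simp only [ps, Prod.fst_add, Prod.snd_add, pw_add (h.sqU h.zU), pw_add (h.sqU h.uU)]
  calc _ = pw z v.1 * (pw z w.1 * pw u v.2) * pw u w.2 := by group
    _ = _ := by rw [this]; group

theorem ps_zero : ψ 0 = 1 := by simp [ps]

theorem ps_inj {v w : V} (e : ψ v = ψ w) : v = w := by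
  have e : ψ (v + w) = 1 := by rw [h.ps_add, e, h.sqU (h.psU w)]
  refine vv' _ _ ?_
  generalize v + w = x at e
  rcases vcases x with rfl | rfl | rfl | rfl
  · rfl
  · exact absurd (by simpa [ps] using e) h.z1
  · exact absurd (by simpa [ps] using e) h.u1
  · refine absurd ?_ h.uz
    have e : z * u = 1 := by simpa [ps] using e
    exact mul_left_cancel (e.trans (h.sqU h.zU).symm)

theorem ps_surj {x : G} (hx : x ∈ U) : ∃ v, ψ v = x := by
  rcases h.all x hx with rfl | rfl | rfl | rfl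
  exacts [⟨(0, 0), by simp [ps]⟩, ⟨(1, 0), by simp [ps]⟩, ⟨(0, 1), by simp [ps]⟩, ⟨(1, 1), by simp [ps]⟩]

theorem root (v : V) : ps b₁ b₂ v ∈ B ∧ ps b₁ b₂ v * ps b₁ b₂ v = ψ v := by
  refine ⟨mul_mem (pw_mem h.m1 _) (pw_mem h.m2 _), ?_⟩
  rcases vcases v with rfl | rfl | rfl | rfl <;> simp [ps, h.s1, h.s2]
  rw [← h.s1, ← h.s2, mul_assoc b₁ b₂, ← mul_assoc b₂, ← h.comm _ h.m1 _ h.m2]; group

theorem conj_ps {s : G} (hs : s ∉ (𝐂 U)) (v : V) : s * ψ v * s⁻¹ = ψ (sg v) := by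
  have e : s * u * s⁻¹ = z * u := by
    rcases h.all _ (h.Un.conj_mem _ h.uU s) with e | e | e | e
    · exact absurd (by simpa using e) h.u1
    · refine absurd ?_ h.uz
      rw [← h.cz s] at e
      simpa using e
    · refine absurd (fun x hx => ?_) hs
      have e1 := mul_inv_eq_iff_eq_mul.1 e
      have e2 := mul_inv_eq_iff_eq_mul.1 (h.cz s)
      rcases h.all x hx with rfl | rfl | rfl | rfl
      · simp
      · exact e2.symm
      · exact e1.symm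
      · rw [mul_assoc, ← e1, ← mul_assoc, ← e2, mul_assoc]
    · exact e
  rcases vcases v with rfl | rfl | rfl | rfl
  · simp [ps, sg]
  · simpa [ps, sg] using h.cz s
  · simpa [ps, sg] using e
  · have : sg (1, 1) = (0, 1) := by decide
    rw [this]
    simp only [ps, pw0, pw1, one_mul]
    calc s * (z * u) * s⁻¹ = (s * z * s⁻¹) * (s * u * s⁻¹) := by group
      _ = u := by rw [h.cz, e, ← mul_assoc, h.sqU h.zU, one_mul]

def Rel (B : Subgroup G) (z u k : G) (m : M) : Prop :=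
  ∀ b ∈ B, ∀ v, b * b = ps z u v → k * b * k⁻¹ = b * ps z u (ap m v)

theorem exists_rel {k : G} (hk : k ∈ (𝐂 U)) : ∃ m, Rel B z u k m := by
  obtain ⟨v₁, e₁⟩ := h.ps_surj (h.comm_mem_U hk h.m1)
  obtain ⟨v₂, e₂⟩ := h.ps_surj (h.comm_mem_U hk h.m2)
  have f₁ : k * b₁ * k⁻¹ = b₁ * ψ v₁ := by rw [h.comm _ h.m1 _ (h.psB _), e₁]; group
  have f₂ : k * b₂ * k⁻¹ = b₂ * ψ v₂ := by rw [h.comm _ h.m2 _ (h.psB _), e₂]; group
  refine ⟨(v₁, v₂), fun b hb v e => ?_⟩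
  have h1 : k * ps b₁ b₂ v * k⁻¹ = ps b₁ b₂ v * ψ (ap (v₁, v₂) v) := by
    rcases vcases v with rfl | rfl | rfl | rfl
    · simp [ap, h.ps_zero, show ps b₁ b₂ (0, 0) = 1 by simp [ps]]
    · simpa [ap, show ps b₁ b₂ (1, 0) = b₁ by simp [ps]] using f₁
    · simpa [ap, show ps b₁ b₂ (0, 1) = b₂ by simp [ps]] using f₂
    · simp only [ap, one_smul, show ps b₁ b₂ (1, 1) = b₁ * b₂ by simp [ps], h.ps_add]
      calc k * (b₁ * b₂) * k⁻¹ = (k * b₁ * k⁻¹) * (k * b₂ * k⁻¹) := by group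
        _ = b₁ * (ψ v₁ * b₂) * ψ v₂ := by rw [f₁, f₂]; group
        _ = _ := by rw [h.comm _ (h.psB _) _ h.m2]; group
  obtain ⟨r1, r2⟩ := h.root v
  generalize ps b₁ b₂ v = r at *
  have h2 : r⁻¹ * b ∈ U := (h.memU _).2 ⟨mul_mem (inv_mem r1) hb, by
    calc r⁻¹ * b * (r⁻¹ * b) = r⁻¹ * (b * r⁻¹) * b := by group
      _ = (r * r)⁻¹ * (b * b) := by rw [h.comm _ hb _ (inv_mem r1)]; group
      _ = 1 := by rw [r2, e]; group⟩
  have h3 := hk _ h2
  calc k * b * k⁻¹ = k * r * k⁻¹ * (k * (r⁻¹ * b)) * k⁻¹ := by group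
    _ = r * (ψ (ap (v₁, v₂) v) * (r⁻¹ * b)) := by rw [← h3, h1]; group
    _ = _ := by rw [h.comm _ (h.psB _) _ (h.UB h2)]; group

theorem rel_uniq {k : G} {m n : M} (h1 : Rel B z u k m) (h2 : Rel B z u k n) : m = n :=
  ap_ext _ _
    (h.ps_inj (mul_left_cancel ((h1 _ h.m1 _ (by simp [ps, h.s1])).symm.trans (h2 _ h.m1 _ (by simp [ps, h.s1])))))
    (h.ps_inj (mul_left_cancel ((h1 _ h.m2 _ (by simp [ps, h.s2])).symm.trans (h2 _ h.m2 _ (by simp [ps, h.s2])))))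

open Classical in
noncomputable def ph (B : Subgroup G) (z u k : G) : M := if hk : ∃ m, Rel B z u k m then hk.choose else 0

local notation "φ" => ph B z u

theorem rel {k : G} (hk : k ∈ (𝐂 U)) : Rel B z u k (φ k) := by
  have := h.exists_rel hk
  rw [ph, dif_pos this]; exact this.choose_spec

theorem ph_mul {k l : G} (hk : k ∈ (𝐂 U)) (hl : l ∈ (𝐂 U)) : φ (k * l) = φ k + φ l :=
  h.rel_uniq (h.rel (mul_mem hk hl)) fun b hb v e => by
    have := hk _ (h.psU (ap (φ l) v))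
    calc k * l * b * (k * l)⁻¹ = k * (l * b * l⁻¹) * k⁻¹ := by group
      _ = k * b * k⁻¹ * (k * ψ (ap (φ l) v)) * k⁻¹ := by rw [h.rel hl b hb v e]; group
      _ = _ := by rw [← this, h.rel hk b hb v e, ap_add, h.ps_add]; group

theorem ph_zero {k : G} (hk : k ∈ (𝐂 U)) : φ k = 0 ↔ k ∈ (𝐂 B) := by
  constructor
  · intro e b hb
    obtain ⟨v, hv⟩ := h.ps_surj (h.sq_mem hb)
    have := h.rel hk b hb v hv.symm
    rw [e, ap_zero, h.ps_zero, mul_one, mul_inv_eq_iff_eq_mul] at this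
    exact this.symm
  · intro e
    exact h.rel_uniq (h.rel hk) fun b hb v _ => by rw [ap_zero, h.ps_zero, ← e b hb]; group

theorem ph_inv {k : G} (hk : k ∈ (𝐂 U)) : φ k⁻¹ = φ k :=
  mm' _ _ (by rw [← h.ph_mul (inv_mem hk) hk, inv_mul_cancel, h.ph_zero (one_mem _)]; exact one_mem _)

theorem ph_eq {k l : G} (hk : k ∈ (𝐂 U)) (hl : l ∈ (𝐂 U)) (e : φ k = φ l) : k⁻¹ * l ∈ (𝐂 B) := by
  rw [← h.ph_zero (mul_mem (inv_mem hk) hl), h.ph_mul (inv_mem hk) hl, h.ph_inv hk, e, mm]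

theorem ph_mulC {k c : G} (hk : k ∈ (𝐂 U)) (hc : c ∈ (𝐂 B)) : φ (k * c) = φ k := by
  rw [h.ph_mul hk (h.CU hc), (h.ph_zero (h.CU hc)).2 hc, add_zero]

theorem CUn : (𝐂 U).Normal := by haveI := h.Un; infer_instance

theorem ph_conj {k g : G} (hk : k ∈ (𝐂 U)) (hg : g ∈ (𝐂 U)) : φ (g * k * g⁻¹) = φ k := by
  rw [h.ph_mul (mul_mem hg hk) (inv_mem hg), h.ph_mul hg hk, h.ph_inv hg, add_right_comm, mm, zero_add]

theorem ph_conj' {k s : G} (hk : k ∈ (𝐂 U)) (hs : s ∉ (𝐂 U)) : φ (s * k * s⁻¹) = ta (φ k) :=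
  h.rel_uniq (h.rel (h.CUn.conj_mem _ hk s)) fun b hb v e => by
    have h1 := h.rel hk _ (h.nrm.conj_mem _ hb s⁻¹) (sg v) (by
      rw [← h.conj_ps (mt inv_mem_iff.1 hs), ← e]; group)
    calc s * k * s⁻¹ * b * (s * k * s⁻¹)⁻¹ = s * (k * (s⁻¹ * b * s⁻¹⁻¹) * k⁻¹) * s⁻¹ := by group
      _ = b * (s * ψ (ap (φ k) (sg v)) * s⁻¹) := by rw [h1]; group
      _ = _ := by rw [h.conj_ps hs, ap_ta]

theorem sing_of {k : G} (hk : k ∈ (𝐂 U)) (hs : sing (φ k)) : Sing B k := fun b hb e => by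
  obtain ⟨v, hv⟩ := h.ps_surj (h.sq_mem hb)
  have h1 := h.rel hk b hb v hv.symm
  have h2 : ψ (ap (φ k) v) = ψ v := by
    have := h.sqU (h.psU v)
    calc ψ (ap (φ k) v) = b⁻¹ * (b * ψ (ap (φ k) v)) := by group
      _ = (ψ v)⁻¹ := by rw [← h1, e, hv]; group
      _ = ψ v := inv_eq_of_mul_eq_one_right this
  rw [← hv, hs v (h.ps_inj h2), h.ps_zero]

theorem free_of {k : G} (hk : k ∈ (𝐂 U)) (hs : free (φ k)) : Free B k := fun b hb e => by
  obtain ⟨v, hv⟩ := h.ps_surj (h.sq_mem hb)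
  have h1 := h.rel hk b hb v hv.symm
  rw [e, left_eq_mul, ← h.ps_zero] at h1
  rw [← hv, hs v (h.ps_inj h1), h.ps_zero]

theorem sq_C {k : G} (hk : k ∈ (𝐂 U)) : k * k ∈ (𝐂 B) := by
  rw [← h.ph_zero (mul_mem hk hk), h.ph_mul hk hk, mm]

theorem inv_of_sq {k : G} (hk : k ∈ (𝐂 U)) (hs : sing (φ k)) (h2 : k * k ∈ U) :
    ∃ t ∈ (𝐂 U), φ t = φ k ∧ t * t = 1 := by
  obtain ⟨w, hw⟩ := h.ps_surj h2
  obtain ⟨v, hv⟩ := surj1 _ hs w
  obtain ⟨r1, r2⟩ := h.root v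
  have h1 := h.rel hk _ r1 v r2
  generalize ps b₁ b₂ v = r at *
  have rC := h.CU (h.BC r1)
  refine ⟨r * k, mul_mem rC hk, by rw [h.ph_mul rC hk, (h.ph_zero rC).2 (h.BC r1), zero_add], ?_⟩
  calc r * k * (r * k) = r * (k * r * k⁻¹) * (k * k) := by group
    _ = (r * r) * ψ (ap (φ k) v) * ψ w := by rw [h1, hw]; group
    _ = 1 := by rw [r2, ← h.ps_add, hv, h.sqU (h.psU w)]

theorem near {t t' : G} (ht : t ∈ (𝐂 U)) (ht' : t' ∈ (𝐂 U)) (hs : sing (φ t)) (e : φ t = φ t') (h1 : t * t = 1)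
    (h2 : t' * t' = 1) : t⁻¹ * t' ∈ U := by
  have := h.sq_fib (h.sing_of ht hs) (one_mem _) (h.ph_eq ht ht' e) (by simp [h1, h2])
  simpa using this

omit h in
theorem conj_sq {t : G} (h1 : t * t = 1) (g : G) : g * t * g⁻¹ * (g * t * g⁻¹) = 1 := by
  calc g * t * g⁻¹ * (g * t * g⁻¹) = g * (t * t) * g⁻¹ := by group
    _ = 1 := by rw [h1]; group

theorem cardU' : 4 ≤ Nat.card U := by
  have := Nat.card_le_card_of_injective (fun v : V => (⟨ψ v, h.psU v⟩ : U))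
    fun v w e => h.ps_inj (congrArg Subtype.val e)
  simpa using this

theorem moved {t : G} (ht : t ∈ (𝐂 U)) (hs : sing (φ t)) (h0 : φ t ≠ 0) (h1 : t * t = 1) :
    ∃ s, s ∉ (𝐂 U) ∧ ta (φ t) ≠ φ t := by
  haveI := fact_two
  haveI := h.Un
  by_contra! hne
  have key : ∀ g, t⁻¹ * (g * t * g⁻¹) ∈ U := fun g => by
    refine h.near ht (h.CUn.conj_mem _ ht g) hs ?_ h1 (conj_sq h1 g)
    by_cases hg : g ∈ (𝐂 U)
    · rw [h.ph_conj ht hg]
    · rw [h.ph_conj' ht hg, hne g hg]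
  have hn : (U ⊔ zpowers t).Normal := normal_of_forall_map_conj_le fun g => by
    rw [Subgroup.map_sup, map_conj_eq_of_normal, MonoidHom.map_zpowers]
    refine sup_le le_sup_left (zpowers_le.2 ?_)
    have := mul_mem (mem_sup_right (mem_zpowers t)) (mem_sup_left (T := zpowers t) (key g))
    simpa using this
  have h4 := h.small _ hn fun x hx => by
    obtain ⟨a, ha, b, hb, rfl⟩ := (mem_sup_of_le_normalizer_left (le_normalizer_of_normal)).1 hx
    have hb' := (zpowers_le.2 ht hb) a ha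
    obtain ⟨k, rfl⟩ := hb
    simp only at hb' ⊢
    calc a * t ^ k * (a * t ^ k) = a * (t ^ k * a) * t ^ k := by group
      _ = (a * a) * (t ^ 2) ^ k := by rw [← hb']; group
      _ = 1 := by rw [h.sqU ha, sq, h1]; simp
  have h5 : U < U ⊔ zpowers t := lt_of_le_of_ne le_sup_left fun e =>
    h0 ((h.ph_zero ht).2 (h.BC (h.UB (e ▸ mem_sup_right (mem_zpowers t)))))
  have := card_lt_of_lt h5
  have := h.cardU'
  omega

theorem le_four {L : Subgroup G} (hL : L ≤ (𝐂 U)) (hd : ∀ a ∈ L, ∀ b ∈ L, ∀ c ∈ L, dep (φ a) (φ b) (φ c)) :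
    (𝐂 B).relIndex L ≤ 4 := by
  obtain ⟨a, b, hab⟩ : ∃ a b : M, ∀ c ∈ L, φ c ∈ ({0, a, b, a + b} : Finset M) := by
    by_cases h1 : ∃ a ∈ L, φ a ≠ 0
    · obtain ⟨a, ha, h1⟩ := h1
      by_cases h2 : ∃ b ∈ L, φ b ≠ 0 ∧ φ b ≠ φ a
      · obtain ⟨b, hb, h2, h3⟩ := h2
        refine ⟨φ a, φ b, fun c hc => ?_⟩
        have := hd a ha b hb c hc
        simp only [dep, h1, h2, h3, false_or] at this
        simpa using this
      · push Not at h2
        refine ⟨φ a, 0, fun c hc => ?_⟩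
        by_cases h3 : φ c = 0
        · simp [h3]
        · simp [h2 c hc h3]
    · push Not at h1
      exact ⟨0, 0, fun c hc => by simp [h1 c hc]⟩
  exact (rel_le_finset φ _ hab fun a ha b hb e => h.ph_eq (hL ha) (hL hb) e).trans Finset.card_le_four

theorem of_list {L : Subgroup G} (hL : L ≤ (𝐂 U)) {a b c : G} (ha : a ∈ L) (hb : b ∈ L) (hc : c ∈ L) {w : M}
    (hw : w ∈ [φ a, φ b, φ c, φ a + φ b, φ a + φ c, φ b + φ c, φ a + φ b + φ c]) : ∃ x ∈ L, φ x = w := by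
  simp only [List.mem_cons, List.not_mem_nil, or_false] at hw
  rcases hw with rfl | rfl | rfl | rfl | rfl | rfl | rfl
  exacts [⟨a, ha, rfl⟩, ⟨b, hb, rfl⟩, ⟨c, hc, rfl⟩, ⟨_, mul_mem ha hb, h.ph_mul (hL ha) (hL hb)⟩,
    ⟨_, mul_mem ha hc, h.ph_mul (hL ha) (hL hc)⟩, ⟨_, mul_mem hb hc, h.ph_mul (hL hb) (hL hc)⟩,
    ⟨_, mul_mem (mul_mem ha hb) hc, by rw [h.ph_mul (hL (mul_mem ha hb)) (hL hc), h.ph_mul (hL ha) (hL hb)]⟩]

theorem big {t : G} (ht : t ∈ (𝐂 U)) (hs : sing (φ t)) (h0 : φ t ≠ 0) (h1 : t * t = 1) :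
    (𝐂 B).relIndex (𝐂 U) ≤ 4 := by
  obtain ⟨s, hs1, hs2⟩ := h.moved ht hs h0 h1
  obtain ⟨f1, f2, -⟩ := d1 _ hs hs2
  have ht' := h.CUn.conj_mem _ ht s
  have h1' := conj_sq h1 s
  have e' := h.ph_conj' ht hs1
  generalize s * t * s⁻¹ = t' at *
  have hy := mul_mem ht ht'
  have ey := h.ph_mul ht ht'
  rw [e'] at ey
  have hN : ∀ k ∈ (𝐂 U), φ k ≠ N1 := fun k hk e => by
    have a1 := h.near ht (h.CUn.conj_mem _ ht k) hs (h.ph_conj ht hk).symm h1 (conj_sq h1 k)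
    have a2 := h.near ht' (h.CUn.conj_mem _ ht' k) (e' ▸ f2) (h.ph_conj ht' hk).symm h1' (conj_sq h1' k)
    obtain ⟨w, hw⟩ := h.ps_surj (mul_mem a1 a2)
    have a3 : k * (t * t') * k⁻¹ = t * t' * ψ w := by
      have := ht' _ a1
      rw [hw]
      calc k * (t * t') * k⁻¹ = t * (t⁻¹ * (k * t * k⁻¹) * t') * (t'⁻¹ * (k * t' * k⁻¹)) := by group
        _ = _ := by rw [this]; group
    generalize t * t' = y at *
    obtain ⟨v, hv⟩ := surj2 _ f1 w
    obtain ⟨r1, r2⟩ := h.root v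
    have a4 := h.rel hy _ r1 v r2
    rw [ey, hv] at a4
    generalize ps b₁ b₂ v = r at *
    have rC := h.CU (h.BC r1)
    have a5 : r * k * y * (r * k)⁻¹ = y := by
      have c1 := hy _ (h.psU w)
      have c2 := h.comm _ r1 _ (h.psB w)
      have c3 := h.sqU (h.psU w)
      calc r * k * y * (r * k)⁻¹ = r * (k * y * k⁻¹) * r⁻¹ := by group
        _ = r * (y * ψ w) * r⁻¹ := by rw [a3]
        _ = r * ψ w * (y * r * y⁻¹)⁻¹ * y := by rw [← c1]; group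
        _ = y := by rw [a4]; group
    have hx := mul_mem rC hk
    have ex : φ (r * k) = N1 := by rw [h.ph_mul rC hk, (h.ph_zero rC).2 (h.BC r1), zero_add, e]
    generalize r * k = x at *
    have a6 : x * x ∈ U := h.fix_mem_U (h.free_of hy (ey ▸ f1)) (h.sq_C hx) (by
      have c : Commute x y := mul_inv_eq_iff_eq_mul.1 a5
      exact (c.mul_left c).symm.mul_inv_cancel)
    obtain ⟨q, hq, eq, q2⟩ := h.inv_of_sq hx (ex ▸ d0.1) a6
    rw [ex] at eq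
    obtain ⟨-, -, q3⟩ := h.moved hq (eq ▸ d0.1) (eq ▸ d0.2.2.1) q2
    exact q3 (eq ▸ d0.2.1)
  refine h.le_four le_rfl fun a ha b hb c hc => (d3 _ _ _).resolve_right ?_
  rintro ⟨w, hw, hw'⟩
  obtain ⟨x, hx, rfl⟩ := h.of_list le_rfl ha hb hc hw
  rcases hw' with e | e
  · exact hN x hx e
  · exact hN _ (mul_mem hx (h.CUn.conj_mem _ hx s)) (by
      rw [h.ph_mul hx (h.CUn.conj_mem _ hx s), h.ph_conj' hx hs1, e])

theorem le_eight : (𝐂 B).relIndex (𝐂 U) ≤ 8 := by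
  by_cases e : ∃ k ∈ (𝐂 U), φ k = om
  · obtain ⟨k, hk, e⟩ := e
    obtain ⟨t, ht, e', t2⟩ := h.inv_of_sq hk (e ▸ d0.2.2.2.1)
      (h.fix_mem_U (h.free_of hk (e ▸ d0.2.2.2.2.1)) (h.sq_C hk) (by group))
    rw [e] at e'
    exact (h.big ht (e' ▸ d0.2.2.2.1) (e' ▸ d0.2.2.2.2.2) t2).trans (by norm_num)
  · push Not at e
    refine rel_le_of_lt h.two (k := 3) ((rel_le_finset φ (Finset.univ.filter fun a : M => a ≠ om)
      (fun a ha => by simpa using e a ha) fun a ha b hb e => h.ph_eq ha hb e).trans_lt ?_)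
    rw [card15]; norm_num

theorem main : SR 16 (⊤ : Subgroup G) := by
  intro H _ K hK
  have r := h.rho_le hK
  have hL : (𝐂 U) ⊓ H ≤ (𝐂 U) := inf_le_left
  have inv : 2 < K.relIndex ((𝐂 B) ⊓ H) → ∀ x ∈ (𝐂 U) ⊓ H, sing (φ x) → ∃ t ∈ (𝐂 U), φ t = φ x ∧ t * t = 1 :=
    fun h2 x hx hs => by
      obtain ⟨c, hc, e⟩ := h.exists_inv hK h2 (h.sing_of (hL hx) hs) (mem_inf.1 hx).2 (h.sq_C (hL hx))
      exact ⟨_, mul_mem (hL hx) (h.CU hc), h.ph_mulC (hL hx) hc, e⟩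
  refine h.finish ?_ fun hk s hs hs' => ?_
  · by_cases h2 : 2 < K.relIndex ((𝐂 B) ⊓ H)
    · have : (𝐂 B).relIndex ((𝐂 U) ⊓ H) ≤ 4 := by
        by_contra! h4
        refine absurd (h.le_four hL fun a ha b hb c hc => (d4 _ _ _).resolve_right ?_) (by omega)
        rintro ⟨w, hw, w0, ws⟩
        obtain ⟨x, hx, rfl⟩ := h.of_list hL ha hb hc hw
        obtain ⟨t, ht, e, t2⟩ := inv h2 x hx ws
        have := (rel_mono (C := 𝐂 B) hL).trans (h.big ht (e ▸ ws) (e ▸ w0) t2)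
        omega
      nlinarith
    · have := (rel_mono (C := 𝐂 B) hL).trans h.le_eight
      nlinarith
  · have fx : ∀ x ∈ (𝐂 U) ⊓ H, ta (φ x) = φ x := fun x hx => by
      have hx' := (mem_inf.1 hx).2
      have c1 : x⁻¹ * s * x⁻¹⁻¹ * s⁻¹ ∈ (𝐂 B) := hk (mem_inf.2 ⟨comm_mem hK (inv_mem hx') hs,
        mul_mem (mul_mem (mul_mem (inv_mem hx') hs) (inv_mem (inv_mem hx'))) (inv_mem hs)⟩)
      rw [← h.ph_conj' (hL hx) hs', ← h.ph_mulC (hL hx) c1]
      congr 1; group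
    by_cases h2 : 2 < K.relIndex ((𝐂 B) ⊓ H)
    · have hN : ∀ x ∈ (𝐂 U) ⊓ H, φ x ≠ N1 := fun x hx e => by
        obtain ⟨t, ht, e', t2⟩ := inv h2 x hx (e ▸ d0.1)
        rw [e] at e'
        obtain ⟨-, -, q3⟩ := h.moved ht (e' ▸ d0.1) (e' ▸ d0.2.2.1) t2
        exact q3 (e' ▸ d0.2.1)
      obtain ⟨a, ha⟩ : ∃ a : M, ∀ c ∈ (𝐂 U) ⊓ H, φ c ∈ ({0, a} : Finset M) := by
        by_cases h1 : ∃ a ∈ (𝐂 U) ⊓ H, φ a ≠ 0
        · obtain ⟨a, ha, h1⟩ := h1
          refine ⟨φ a, fun c hc => ?_⟩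
          simpa using d2 _ _ (fx a ha) (fx c hc) (hN a ha) (hN c hc)
            (h.ph_mul (hL ha) (hL hc) ▸ hN _ (mul_mem ha hc)) h1
        · push Not at h1
          exact ⟨0, fun c hc => by simp [h1 c hc]⟩
      have := (rel_le_finset φ _ ha fun a ha b hb e => h.ph_eq (hL ha) (hL hb) e).trans Finset.card_le_two
      nlinarith
    · have := rel_le_finset φ (Finset.univ.filter fun a : M => ta a = a) (fun a ha => by simpa using fx a ha)
        fun a ha b hb e => h.ph_eq (hL ha) (hL hb) e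
      rw [fixta] at this
      nlinarith

end MC

/-- a subgroup of order at most four containing two distinct commuting involutions -/
theorem four_cases {U : Subgroup G} (hU : Nat.card U ≤ 4) {z u : G} (hz : z ∈ U) (hu : u ∈ U) (z1 : z ≠ 1)
    (u1 : u ≠ 1) (uz : u ≠ z) (zz : z * z = 1) : ∀ x ∈ U, x = 1 ∨ x = z ∨ x = u ∨ x = z * u := by
  classical
  intro x hx
  by_contra! hne
  obtain ⟨h1, h2, h3, h4⟩ := hne
  have a1 : z * u ≠ 1 := fun e => uz (mul_left_cancel (e.trans zz.symm))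
  have a2 : z * u ≠ z := by simpa using u1
  have a3 : z * u ≠ u := by simpa using z1
  have : ({x, z * u, u, z, 1} : Finset G).card ≤ Nat.card U := by
    rw [← SetLike.coe_sort_coe, Nat.card_coe_set_eq, ← Set.ncard_coe_finset]
    refine Set.ncard_le_ncard fun y hy => ?_
    simp only [Finset.coe_insert, Finset.coe_singleton, Set.mem_insert_iff, Set.mem_singleton_iff] at hy
    rcases hy with rfl | rfl | rfl | rfl | rfl
    exacts [hx, mul_mem hz hu, hu, hz, one_mem _]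
  rw [Finset.card_insert_of_notMem (by simp [h1, h2, h3, h4]), Finset.card_insert_of_notMem (by simp [a1, a2, a3]),
    Finset.card_insert_of_notMem (by simp [u1, uz]), Finset.card_insert_of_notMem (by simp [z1])] at this
  simp at this
  omega

/-- MacWilliams' four generator theorem -/
theorem macWilliams (hG : IsPGroup 2 G)
    (h : ∀ A : Subgroup G, A.Normal → (∀ a ∈ A, a * a = 1) → Nat.card A ≤ 4) : SR 16 (⊤ : Subgroup G) := by
  haveI := fact_two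
  obtain ⟨B, U, h⟩ := exists_AB hG h
  by_cases e : ∃ b ∈ B, ∀ x ∈ B, x ∈ U ∨ b⁻¹ * x ∈ U
  · obtain ⟨b, hb, e⟩ := e
    exact h.easy hb e
  push Not at e
  obtain ⟨c₁, m1, n1, -⟩ := e 1 (one_mem _)
  obtain ⟨c₂, m2, n2, n3⟩ := e c₁ m1
  have k1 : c₁ * c₁ ≠ 1 := fun e => n1 ((h.memU _).2 ⟨m1, e⟩)
  have k2 : c₂ * c₂ ≠ 1 := fun e => n2 ((h.memU _).2 ⟨m2, e⟩)
  have k3 : c₂ * c₂ ≠ c₁ * c₁ := fun e => n3 ((h.memU _).2 ⟨mul_mem (inv_mem m1) m2, by
    calc c₁⁻¹ * c₂ * (c₁⁻¹ * c₂) = c₁⁻¹ * (c₂ * c₁⁻¹) * c₂ := by group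
      _ = (c₁ * c₁)⁻¹ * (c₂ * c₂) := by rw [h.comm _ m2 _ (inv_mem m1)]; group
      _ = 1 := by rw [e]; group⟩)
  have all := four_cases h.cardU (h.sq_mem m1) (h.sq_mem m2) k1 k2 k3 (h.sqU (h.sq_mem m1))
  have rt : ∀ x ∈ U, ∃ b ∈ B, b * b = x := fun x hx => by
    rcases all x hx with rfl | rfl | rfl | rfl
    · exact ⟨1, one_mem _, mul_one _⟩
    · exact ⟨_, m1, rfl⟩
    · exact ⟨_, m2, rfl⟩
    · refine ⟨_, mul_mem m1 m2, ?_⟩
      rw [mul_assoc c₁ c₂, ← mul_assoc c₂, ← h.comm _ m1 _ m2]; group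
  haveI := h.Un
  obtain ⟨z, zU, z1, -, zc⟩ := PGrp.exists_mem_central_mod hG ⊥ U fun e => k1 (mem_bot.1 (e (h.sq_mem m1)))
  rw [mem_bot] at z1
  obtain ⟨u, uU, u1, uz⟩ : ∃ u ∈ U, u ≠ 1 ∧ u ≠ z := by
    by_cases e : c₁ * c₁ = z
    · exact ⟨_, h.sq_mem m2, k2, e ▸ k3⟩
    · exact ⟨_, h.sq_mem m1, k1, e⟩
  obtain ⟨b₁, o1, s1⟩ := rt z zU
  obtain ⟨b₂, o2, s2⟩ := rt u uU
  refine MC.main (z := z) (u := u) ⟨h, fun g => ?_, z1, u1, uz, o1, o2, s1, s2,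
    four_cases h.cardU zU uU z1 u1 uz (h.sqU zU)⟩
  have := mem_bot.1 (zc g)
  rw [commutatorElement_eq_one_iff_mul_comm] at this
  rw [← this]; group

theorem sec_top (hG : IsPGroup 2 G) (h : SR 16 (⊤ : Subgroup G)) : SectionalPRankLE 2 4 G := by
  haveI := fact_two
  obtain ⟨P⟩ : Nonempty (Sylow 2 G) := inferInstance
  exact sec_of P (SR.mono (k := 2 ^ 4) h le_top)

end Cfsg.Lib.SRank
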