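import Cfsg.Agent.Lib.SRank.Mac2
import Cfsg.Agent.Lib.SRank.E16

/-! Sections of 2-groups with a normal elementary abelian subgroup of order 8. -/

set_option autoImplicit false
set_option linter.unusedSectionVars false

namespace Cfsg.Lib.SRank

open Subgroup Cfsg.Lib.Invol Cfsg.Lib.Core

variable {G : Type*} [Group G] [Finite G]

local notation "𝐂" A => centralizer ((A : Subgroup G) : Set G)
local notation "𝐂[" x "]" => centralizer ({x} : Set G)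

theorem cos2 {U W : Subgroup G} (h : U.relIndex W ≤ 2) {x y : G} (hx : x ∈ W) (hy : y ∈ W) (h1 : x ∉ U)
    (h2 : y ∉ U) : x⁻¹ * y ∈ U := by
  have h3 : U.relIndex W ≠ 1 := fun e => h1 (relIndex_eq_one.1 e hx)
  have h4 := rel_ne U W
  have h5 : (U.subgroupOf W).index = 2 := by change U.relIndex W = 2; omega
  exact (mul_mem_iff_of_index_two h5 (a := ⟨x, hx⟩⁻¹) (b := ⟨y, hy⟩)).2
    (iff_of_false (by simpa [mem_subgroupOf] using h1) (by simpa [mem_subgroupOf] using h2))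

theorem rel2 {U W : Subgroup G} {k : ℕ} (h : Nat.card W ≤ k * Nat.card ↥(U ⊓ W)) : U.relIndex W ≤ k := by
  rw [← card_inf_mul_relIndex U, mul_comm] at h
  exact Nat.le_of_mul_le_mul_right h Nat.card_pos

theorem mem_c {x y : G} : x ∈ 𝐂[y] ↔ x * y = y * x := mem_centralizer_singleton_iff

theorem proper (hG : IsPGroup 2 G) {A : Subgroup G} {h : G} (hh : h ∉ (𝐂 A)) :
    2 * Nat.card ↥(A ⊓ 𝐂[h]) ≤ Nat.card A := by
  haveI := fact_two
  exact PGrp.mul_card_le_of_lt (hG.to_subgroup A) (lt_of_le_of_ne inf_le_left fun e =>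
    hh fun u hu => mem_c.1 ((inf_eq_left.1 e) hu))

theorem zp2 {t x : G} (ht : t * t = 1) (hx : x ∈ zpowers t) : x = 1 ∨ x = t := by
  obtain ⟨k, rfl⟩ := hx
  have : t ^ (2 : ℤ) = 1 := by rw [zpow_two, ht]
  rcases Int.even_or_odd' k with ⟨j, rfl | rfl⟩
  · left; simp only [zpow_mul, this, one_zpow]
  · right; simp only [zpow_add, zpow_mul, this, one_zpow, one_mul, zpow_one]

theorem card_zp2 {t : G} (ht : t * t = 1) : Nat.card (zpowers t) ≤ 2 := by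
  rw [Nat.card_zpowers]; exact orderOf_le_of_pow_eq_one two_pos (by rw [sq, ht])

/-- the section on an abelian normal subgroup is bounded by the fixed points of any element -/
theorem rho_fix {D H K : Subgroup G} [hn : D.Normal] (hc : ∀ a ∈ D, ∀ b ∈ D, a * b = b * a) (hK : ∀ x ∈ H, x * x ∈ K)
    {s : G} (hs : s ∈ H) : K.relIndex (D ⊓ H) ≤ Nat.card ↥(D ⊓ 𝐂[s]) :=
  (rel_le_fixed (A := D ⊓ H) (fun a ha b hb => hc a ha.1 b hb.1)
    (fun a ha => mem_inf.2 ⟨hn.conj_mem _ ha.1 s, mul_mem (mul_mem hs (mem_inf.1 ha).2) (inv_mem hs)⟩)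
    fun a ha => comm_mem hK hs (mem_inf.1 ha).2).trans (card_mono (inf_le_inf_right _ inf_le_left))

theorem ut_key {B U : Subgroup G} {b : G} (hB : ∀ x ∈ B, x ∈ U ∨ b⁻¹ * x ∈ U) {L T : Subgroup G} (hL : L ≤ (𝐂 U))
    (hT : ∀ k ∈ L, k * b * k⁻¹ * b⁻¹ ∈ T) : (𝐂 B).relIndex L ≤ Nat.card T :=
  rel_le_card (fun k => (⟨_, hT k k.2⟩ : T)) fun k l e => by
    have e : (k : G) * b * (k : G)⁻¹ * b⁻¹ = l * b * (l : G)⁻¹ * b⁻¹ := congrArg Subtype.val e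
    have e1 : b * ((k : G)⁻¹ * l) = (k : G)⁻¹ * l * b := by
      calc b * ((k : G)⁻¹ * l) = (k : G)⁻¹ * (k * b * (k : G)⁻¹ * b⁻¹) * b * l := by group
        _ = _ := by rw [e]; group
    have e2 := mul_mem (inv_mem (hL k.2)) (hL l.2)
    intro x hx
    rcases hB x hx with h1 | h1
    · exact e2 x h1
    · have := e2 _ h1
      calc x * ((k : G)⁻¹ * l) = b * (b⁻¹ * x * ((k : G)⁻¹ * l)) := by group
        _ = b * ((k : G)⁻¹ * l) * (b⁻¹ * x) := by rw [this]; group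
        _ = _ := by rw [e1]; group

/-- conjugating a commutator with `b` -/
theorem conj_comm {B U : Subgroup G} [hn : B.Normal] [hU : U.Normal] {b : G} (hb : b ∈ B)
    (hB : ∀ x ∈ B, x ∈ U ∨ b⁻¹ * x ∈ U) {k : G} (hk : k ∈ (𝐂 U)) (s : G) :
    s * (k * b * k⁻¹ * b⁻¹) * s⁻¹ = (s * k * s⁻¹) * b * (s * k * s⁻¹)⁻¹ * b⁻¹ := by
  have b1 := hn.conj_mem _ hb s⁻¹
  have c3 : k * (s⁻¹ * b * s) * k⁻¹ * (s⁻¹ * b * s)⁻¹ = k * b * k⁻¹ * b⁻¹ := by
    rw [inv_inv] at b1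
    rcases hB _ b1 with h2 | h2
    · have h3 : b ∈ U := by simpa [mul_assoc] using hU.conj_mem _ h2 s
      rw [← hk _ h2, ← hk _ h3]; group
    · have := hk _ h2
      calc k * (s⁻¹ * b * s) * k⁻¹ * (s⁻¹ * b * s)⁻¹
          = k * b * k⁻¹ * (k * (b⁻¹ * (s⁻¹ * b * s))) * k⁻¹ * (s⁻¹ * b * s)⁻¹ := by group
        _ = _ := by rw [← this]; group
  rw [← c3]; group

structure E8 (W : Subgroup G) : Prop where
  two : IsPGroup 2 G
  nrm : W.Normal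
  sq : ∀ w ∈ W, w * w = 1
  card : Nat.card W = 8

namespace E8

variable {W : Subgroup G} (h : E8 W)
include h

theorem comm : ∀ a ∈ W, ∀ b ∈ W, a * b = b * a := comm_of_sq h.sq
theorem WD : W ≤ (𝐂 W) := fun a ha b hb => h.comm b hb a ha
theorem Dn : (𝐂 W).Normal := by haveI := h.nrm; infer_instance

theorem comm_U {U : Subgroup G} [hU : U.Normal] (hUW : U ≤ W) (hc : Nat.card U = 4) {w : G} (hw : w ∈ W) (g : G) :
    g * w * g⁻¹ * w⁻¹ ∈ U := by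
  by_cases h1 : w ∈ U
  · exact mul_mem (hU.conj_mem _ h1 g) (inv_mem h1)
  have h2 : U.relIndex W ≤ 2 := rel2 (by rw [inf_eq_left.2 hUW, hc, h.card])
  have h3 := h.nrm.conj_mem _ hw g
  have := cos2 h2 hw h3 h1 fun e => h1 (by simpa [mul_assoc] using hU.conj_mem _ e g⁻¹)
  rwa [h.comm _ (inv_mem hw) _ h3] at this

theorem split {U : Subgroup G} (hUW : U ≤ W) (hc : Nat.card U = 4) :
    ∃ b ∈ W, b ∉ U ∧ ∀ x ∈ W, x ∈ U ∨ b⁻¹ * x ∈ U := by
  have h2 : U.relIndex W ≤ 2 := rel2 (by rw [inf_eq_left.2 hUW, hc, h.card])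
  obtain ⟨b, hb, hb'⟩ : ∃ b ∈ W, b ∉ U := by
    by_contra! e
    have := card_mono (show W ≤ U from e)
    rw [h.card, hc] at this; omega
  exact ⟨b, hb, hb', fun x hx => or_iff_not_imp_left.2 (cos2 h2 hb hx hb')⟩

theorem ut : (𝐂 W).index ≤ 8 ∧ ∀ H K : Subgroup G, (∀ x ∈ H, x * x ∈ K) →
    K.relIndex H ≤ 4 * K.relIndex ((𝐂 W) ⊓ H) := by
  haveI := fact_two
  haveI := h.nrm
  obtain ⟨U, hU, hUW, hc⟩ := PGrp.exists_normal_le_card_eq h.two W 2 (by rw [h.card]; norm_num)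
  obtain ⟨b, hb, -, hB⟩ := h.split hUW hc
  have idx : (𝐂 U).index ≤ 2 := PGrp.index_centralizer_le_of_card_le_sq h.two U hc.le
  have CU : (𝐂 W) ≤ (𝐂 U) := centralizer_le (by exact_mod_cast hUW)
  have k4 : ∀ L ≤ (𝐂 U), (𝐂 W).relIndex L ≤ 4 := fun L hL =>
    (ut_key hB hL fun k _ => h.comm_U hUW hc hb k).trans hc.le
  refine ⟨?_, fun H K hK => ?_⟩
  · rw [← relIndex_mul_index CU]
    exact Nat.mul_le_mul (k4 _ le_rfl) idx
  have e := rel_id K (𝐂 W) H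
  have e2 : (𝐂 W).relIndex H = (𝐂 W).relIndex ((𝐂 U) ⊓ H) * (𝐂 U).relIndex H := by
    rw [relIndex_inf_mul_relIndex, inf_eq_left.2 CU]
  have e3 : (𝐂 U).relIndex H ≤ 2 := (PGrp.relIndex_le_index _ _).trans idx
  have e4 := rel_ne (𝐂 W) (K ⊓ H)
  have e5 := k4 ((𝐂 U) ⊓ H) inf_le_left
  rw [e2] at e
  by_cases hk : K ⊓ H ≤ (𝐂 W)
  · rw [relIndex_eq_one.2 hk, mul_one] at e
    rw [e, mul_comm 4]
    refine Nat.mul_le_mul_left _ ?_
    by_cases hH : H ≤ (𝐂 U)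
    · rw [relIndex_eq_one.2 hH]; omega
    · obtain ⟨s, hs, hs'⟩ := SetLike.not_le_iff_exists.1 hH
      have h1 := ut_key hB (L := (𝐂 U) ⊓ H) (T := U ⊓ 𝐂[s]) inf_le_left fun k hk' => by
        rw [mem_inf] at hk'
        refine ⟨h.comm_U hUW hc hb k, mem_c.2 ?_⟩
        have c1 : s * k * s⁻¹ * k⁻¹ ∈ (𝐂 W) := hk (mem_inf.2 ⟨comm_mem hK hs hk'.2,
          mul_mem (mul_mem (mul_mem hs hk'.2) (inv_mem hs)) (inv_mem hk'.2)⟩)
        have c2 := c1 _ (h.nrm.conj_mem _ hb k)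
        rw [eq_comm, ← mul_inv_eq_iff_eq_mul, conj_comm hb hB hk'.1]
        calc _ = (s * k * s⁻¹ * k⁻¹) * (k * b * k⁻¹) * (s * k * s⁻¹ * k⁻¹)⁻¹ * b⁻¹ := by group
          _ = _ := by rw [← c2]; group
      have h2 := proper h.two hs'
      nlinarith
  · have : (𝐂 W).relIndex (K ⊓ H) ≠ 1 := fun e => hk (relIndex_eq_one.1 e)
    have h2 : 2 ≤ (𝐂 W).relIndex (K ⊓ H) := by omega
    have h3 : (𝐂 W).relIndex ((𝐂 U) ⊓ H) * (𝐂 U).relIndex H ≤ 8 := Nat.mul_le_mul e5 e3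
    nlinarith

theorem D_comm (hD : Nat.card ↥(𝐂 W) ≤ 16) : ∀ a ∈ (𝐂 W), ∀ b ∈ (𝐂 W), a * b = b * a := by
  have h2 : W.relIndex (𝐂 W) ≤ 2 := rel2 (by rw [inf_eq_left.2 h.WD, h.card]; exact hD)
  intro a ha b hb
  by_cases h1 : a ∈ W
  · exact hb a h1
  by_cases h3 : b ∈ W
  · exact (ha b h3).symm
  have := ha _ (cos2 h2 ha hb h1 h3)
  calc a * b = a * (a * (a⁻¹ * b)) := by group
    _ = _ := by rw [← this]; group

/-- the case of a small centralizer -/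
theorem ab (hD : Nat.card ↥(𝐂 W) ≤ 16) {S : Subgroup G} (hS : S.index ≤ 2)
    (hf : ∀ s ∈ S, s ∉ (𝐂 W) → Nat.card ↥((𝐂 W) ⊓ 𝐂[s]) ≤ 4) : SR 16 (⊤ : Subgroup G) := by
  intro H _ K hK
  haveI := h.Dn
  by_cases h1 : ∃ s ∈ S ⊓ H, s ∉ (𝐂 W)
  · obtain ⟨s, hs, hs'⟩ := h1
    have := (rho_fix (h.D_comm hD) hK hs.2).trans (hf s hs.1 hs')
    have := h.ut.2 H K hK
    omega
  push Not at h1
  by_cases h2 : H ≤ (𝐂 W)
  · exact (rel_le_card' K H).trans ((card_mono h2).trans hD)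
  obtain ⟨s, hs, hs'⟩ := SetLike.not_le_iff_exists.1 h2
  have h3 := rho_fix (h.D_comm hD) hK hs
  have h4 := proper h.two (A := 𝐂 W) (h := s) fun e => hs' fun w hw => e w (h.WD hw)
  have h5 : (𝐂 W).relIndex H ≤ 2 := by
    have := rel_le (𝐂 W) S H
    rw [relIndex_eq_one.2 h1, one_mul] at this
    exact this.trans ((PGrp.relIndex_le_index _ _).trans hS)
  have := rel_le K (𝐂 W) H
  nlinarith

theorem ab8 (hD : (𝐂 W) ≤ W) : SR 16 (⊤ : Subgroup G) := by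
  have := card_mono hD
  rw [h.card] at this
  refine h.ab (S := ⊤) (by omega) (by simp) fun s _ hs => ?_
  have h4 := proper h.two (A := 𝐂 W) (h := s) fun e => hs fun w hw => e w (h.WD hw)
  omega

theorem fix2 {g : G} (hg : g * g ∈ (𝐂 W)) : (𝐂[g]).relIndex W ≤ 2 := by
  have h1 : (𝐂[g]).relIndex W ≤ Nat.card ↥(W ⊓ 𝐂[g]) :=
    rel_le_fixed h.comm (fun a ha => h.nrm.conj_mem _ ha g) fun a ha => mem_c.2 (by
      have c1 := hg a ha
      have c2 := h.nrm.conj_mem _ ha g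
      have c3 := h.comm _ c2 _ ha
      have c4 := h.sq _ c2
      have c5 := h.sq _ ha
      rw [eq_comm, ← mul_inv_eq_iff_eq_mul]
      calc g * (g * a * g⁻¹ * a⁻¹) * g⁻¹ = (g * g * a) * (g * g)⁻¹ * (g * a * g⁻¹)⁻¹ := by group
        _ = a * (g * a * g⁻¹)⁻¹ := by rw [← c1]; group
        _ = _ := by rw [inv_eq_of_mul_eq_one_right c4, inv_eq_of_mul_eq_one_right c5, c3])
  have h2 := card_inf_mul_relIndex (𝐂[g]) W
  rw [inf_comm, h.card] at h2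
  refine rel_le_of_lt h.two (k := 1) ?_
  by_contra! h3
  norm_num at h3
  nlinarith

theorem fix4 {g : G} (hg : g * g ∈ (𝐂 W)) : 4 ≤ Nat.card ↥(W ⊓ 𝐂[g]) := by
  have h2 := card_inf_mul_relIndex (𝐂[g]) W
  rw [inf_comm, h.card] at h2
  have := h.fix2 hg
  nlinarith

/-- all nontrivial commutators with an involution agree -/
theorem comm_eq {g w w' : G} (hg : g * g ∈ (𝐂 W)) (hw : w ∈ W) (hw' : w' ∈ W) (h1 : w ∉ 𝐂[g]) (h2 : w' ∉ 𝐂[g]) :
    g * w * g⁻¹ * w⁻¹ = g * w' * g⁻¹ * w'⁻¹ := by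
  have := mem_c.1 (cos2 (h.fix2 hg) hw hw' h1 h2)
  calc g * w * g⁻¹ * w⁻¹ = g * w * g⁻¹ * (w⁻¹ * w' * g) * g⁻¹ * w'⁻¹ := by group
    _ = _ := by rw [this]; group

end E8

end Cfsg.Lib.SRank
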