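import Cfsg.Agent.Lib.SRank.Har1

/-! A normal `E₈` with a four-group having only two fixed points in its centralizer. -/

set_option autoImplicit false
set_option linter.unusedSectionVars false

namespace Cfsg.Lib.SRank

open Subgroup Cfsg.Lib.Invol Cfsg.Lib.Core
open scoped commutatorElement

variable {G : Type*} [Group G] [Finite G]

local notation "𝐂" A => centralizer ((A : Subgroup G) : Set G)
local notation "𝐂[" x "]" => centralizer ({x} : Set G)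

theorem inv_comm {t x : G} (ht : t * t = 1) (hu : ⁅x, t⁆ * ⁅x, t⁆ = 1) : ⁅x, t⁆ ∈ 𝐂[t] := by
  have h1 := inv_eq_of_mul_eq_one_right ht
  have h2 := inv_eq_of_mul_eq_one_right hu
  rw [mem_c]
  nth_rewrite 1 [← h2]
  calc ⁅x, t⁆⁻¹ * t = t * (x * t⁻¹ * x⁻¹ * t) := by simp only [commutatorElement_def]; group
    _ = _ := by rw [commutatorElement_def, h1]

structure II (W : Subgroup G) (z γ δ : G) : Prop extends E8 W where
  zW : z ∈ W
  cz : ∀ g : G, z * g = g * z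
  gg : γ * γ = 1
  dd : δ * δ = 1
  gd : γ * δ = δ * γ
  fix : ∀ x ∈ (𝐂 W), x * γ = γ * x → x * δ = δ * x → x ∈ zpowers z

namespace II

variable {W : Subgroup G} {z γ δ : G} (h : II W z γ δ)
include h

theorem symm : II W z δ γ := ⟨h.toE8, h.zW, h.cz, h.dd, h.gg, h.gd.symm, fun x hx h1 h2 => h.fix x hx h2 h1⟩

theorem mul : II W z (γ * δ) δ := by
  refine ⟨h.toE8, h.zW, h.cz, ?_, h.dd, by rw [← mul_assoc, ← h.gd], fun x hx h1 h2 => h.fix x hx ?_ h2⟩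
  · calc γ * δ * (γ * δ) = γ * (δ * γ) * δ := by group
      _ = (γ * γ) * (δ * δ) := by rw [← h.gd]; group
      _ = 1 := by rw [h.gg, h.dd, one_mul]
  · refine mul_right_cancel (b := δ) ?_
    rw [mul_assoc, h1, mul_assoc, mul_assoc, h2]

theorem not_D : γ ∉ (𝐂 W) := fun e => by
  have h1 := h.fix4 (g := δ) (by rw [h.dd]; exact one_mem _)
  have h2 : W ⊓ 𝐂[δ] ≤ zpowers z := fun x hx => h.fix x (h.WD hx.1) (e x hx.1) (mem_c.1 hx.2)
  have := (card_mono h2).trans (card_zp2 (h.sq z h.zW))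
  omega

theorem cent_le : Nat.card ↥((𝐂 W) ⊓ 𝐂[γ]) ≤ 4 := by
  haveI := h.nrm
  haveI := h.Dn
  have zz := h.sq z h.zW
  have h4 : Nat.card ↥(W ⊓ 𝐂[γ]) ≤ 4 := by
    have := proper h.two h.not_D
    rw [h.card] at this; omega
  have dC : δ ∈ 𝐂[γ] := mem_c.2 h.gd.symm
  have key : ∀ x ∈ 𝐂[γ], ⁅x, δ⁆ ∈ W → ⁅x, δ⁆ = 1 ∨ ⁅x, δ⁆ = z := fun x hx hW => by
    refine zp2 zz (h.fix _ (h.WD hW) (mem_c.1 ?_) (mem_c.1 (inv_comm h.dd (h.sq _ hW))))
    rw [commutatorElement_def]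
    exact mul_mem (mul_mem (mul_mem hx dC) (inv_mem hx)) (inv_mem dC)
  obtain ⟨w, hw, hw'⟩ : ∃ w ∈ W ⊓ 𝐂[γ], w ∉ zpowers z := by
    by_contra! e
    have h1 := h.fix4 (g := γ) (by rw [h.gg]; exact one_mem _)
    have := (card_mono (show W ⊓ 𝐂[γ] ≤ _ from e)).trans (card_zp2 zz)
    omega
  have hwz : ⁅w, δ⁆ = z := by
    refine (key w hw.2 ?_).resolve_left fun e => hw' (h.fix w (h.WD hw.1) (mem_c.1 hw.2)
      (commutatorElement_eq_one_iff_mul_comm.1 e))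
    rw [commutatorElement_def]
    simpa [mul_assoc] using mul_mem hw.1 (h.nrm.conj_mem _ (inv_mem hw.1) δ)
  refine (card_mono ?_).trans h4
  by_contra hn
  obtain ⟨x, hx, hx', -, hc⟩ := central_mod (P := 𝐂[γ]) (h.two.to_subgroup _) inf_le_right
    (le_normalizer_inf le_normalizer_of_normal le_normalizer) (le_normalizer_inf le_normalizer_of_normal le_normalizer) hn
  have zU : zpowers z ≤ W ⊓ 𝐂[γ] := zpowers_le.2 ⟨h.zW, mem_c.2 (h.cz γ)⟩
  rcases key x hx.2 (hc δ dC).1 with e | e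
  · exact hx' (zU (h.fix x hx.1 (mem_c.1 hx.2) (commutatorElement_eq_one_iff_mul_comm.1 e)))
  · have h1 : x * w ∈ (𝐂 W) ⊓ 𝐂[γ] := mul_mem hx ⟨h.WD hw.1, hw.2⟩
    have h2 := zU (h.fix _ h1.1 (mem_c.1 h1.2) (commutatorElement_eq_one_iff_mul_comm.1 (by
      calc ⁅x * w, δ⁆ = x * ⁅w, δ⁆ * x⁻¹ * ⁅x, δ⁆ := by simp only [commutatorElement_def]; group
        _ = 1 := by rw [hwz, e, ← h.cz x, mul_inv_cancel_right, zz])))
    exact hx' (by simpa using mul_mem h2 (inv_mem hw))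

theorem aux16 {L : Subgroup G} (hL : L ≤ (𝐂 W)) (hc : ∀ d ∈ L, ⁅d, γ⁆ ∈ W) : Nat.card L ≤ 16 := by
  have h1 := PGrp.card_le_card_centralizer_mul (W := L) (Z := (𝐂 W) ⊓ 𝐂[γ]) (a := γ)
    fun d hd => ⟨h.WD (hc d hd), inv_comm h.gg (h.sq _ (hc d hd))⟩
  have h2 := (card_mono (inf_le_inf_right (𝐂[γ]) hL)).trans h.cent_le
  have h3 := h.cent_le
  nlinarith

theorem card_D : Nat.card ↥(𝐂 W) ≤ 16 := by
  haveI := fact_two
  haveI := h.nrm
  haveI := h.Dn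
  by_contra! hn
  obtain ⟨L₁, n1, a1, a2, a3, a4⟩ := PGrp.exists_normal_card_eq_mul h.two W (𝐂 W)
    (lt_of_le_of_ne h.WD fun e => by rw [← e, h.card] at hn; omega)
  rw [h.card] at a3
  obtain ⟨L₂, n2, b1, b2, b3, b4⟩ := PGrp.exists_normal_card_eq_mul h.two L₁ (𝐂 W)
    (lt_of_le_of_ne a2 fun e => by rw [← e, a3] at hn; omega)
  rw [a3] at b3
  obtain ⟨x, hx, hx'⟩ : ∃ x ∈ L₂, x ∉ L₁ := by
    by_contra! e
    have := card_mono (show L₂ ≤ L₁ from e)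
    omega
  have r1 : W.relIndex L₁ ≤ 2 := rel2 (by rw [inf_eq_left.2 a1, h.card, a3])
  have r2 : L₁.relIndex L₂ ≤ 2 := rel2 (by rw [inf_eq_left.2 b1, a3, b3])
  have key : ∀ g : G, ⁅x, g⁆ ∈ W → ∀ d ∈ L₂, ⁅d, g⁆ ∈ W := fun g hg d hd => by
    by_cases e : d ∈ L₁
    · exact a4 (commutator_mem_commutator e (mem_top g))
    · have := a4 (commutator_mem_commutator (cos2 r2 hx hd hx' e) (mem_top g))
      rw [show ⁅d, g⁆ = x * ⁅x⁻¹ * d, g⁆ * x⁻¹ * ⁅x, g⁆ by simp only [commutatorElement_def]; group]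
      exact mul_mem (h.nrm.conj_mem _ this x) hg
  by_cases e1 : ⁅x, γ⁆ ∈ W
  · have := h.aux16 b2 (key _ e1); omega
  by_cases e2 : ⁅x, δ⁆ ∈ W
  · have := h.symm.aux16 b2 (key _ e2); omega
  have c1 := b4 (commutator_mem_commutator hx (mem_top γ))
  have c2 := b4 (commutator_mem_commutator hx (mem_top δ))
  have c3 := cos2 r1 (inv_mem c1) (n1.conj_mem _ c2 γ) (mt inv_mem_iff.1 e1)
    fun e => e2 (by simpa [mul_assoc] using h.nrm.conj_mem _ e γ⁻¹)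
  have := h.mul.aux16 b2 (key _ (by
    rwa [show ⁅x, γ * δ⁆ = ⁅x, γ⁆⁻¹⁻¹ * (γ * ⁅x, δ⁆ * γ⁻¹) by simp only [commutatorElement_def]; group]))
  omega

theorem sr : SR 16 (⊤ : Subgroup G) := by
  haveI := fact_two
  haveI := h.Dn
  have n1 : zpowers δ ≤ normalizer (zpowers γ : Set G) :=
    zpowers_le.2 (mem_normalizer_zpowers_of_commute h.gd.symm)
  refine h.ab h.card_D (S := (𝐂 W) ⊔ (zpowers γ ⊔ zpowers δ)) ?_ fun s hs hs' => ?_
  · have l1 : (𝐂 W) < (𝐂 W) ⊔ zpowers γ := lt_of_le_of_ne le_sup_left fun e =>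
      h.not_D (e ▸ mem_sup_right (mem_zpowers γ))
    have l2 : (𝐂 W) ⊔ zpowers γ < (𝐂 W) ⊔ (zpowers γ ⊔ zpowers δ) :=
      lt_of_le_of_ne (sup_le_sup_left le_sup_left _) fun e => by
        have : δ ∈ (𝐂 W) ⊔ zpowers γ := e ▸ mem_sup_right (mem_sup_right (mem_zpowers δ))
        rw [sup_comm] at this
        obtain ⟨a, ha, b, hb, e'⟩ := (mem_sup_of_le_normalizer_right le_normalizer_of_normal).1 this
        rcases zp2 h.gg ha with e2 | e2
        · exact h.symm.not_D (by rwa [← e', e2, one_mul])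
        · exact h.mul.not_D (by rwa [← e', e2, ← mul_assoc, h.gg, one_mul])
    have c1 := PGrp.mul_card_le_of_lt (h.two.to_subgroup _) l1
    have c2 := PGrp.mul_card_le_of_lt (h.two.to_subgroup _) l2
    have c3 := (𝐂 W).card_mul_index
    have c4 := ((𝐂 W) ⊔ (zpowers γ ⊔ zpowers δ)).card_mul_index
    have c5 := h.ut.1
    have c6 : 0 < Nat.card ↥(𝐂 W) := Nat.card_pos
    by_contra! c7
    nlinarith
  · rw [sup_comm] at hs
    obtain ⟨a, ha, d, hd, rfl⟩ := (mem_sup_of_le_normalizer_right le_normalizer_of_normal).1 hs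
    have e : (𝐂 W) ⊓ 𝐂[a * d] ≤ (𝐂 W) ⊓ 𝐂[a] := fun x hx => ⟨hx.1, mem_c.2 (mul_right_cancel (b := d) (by
      rw [mul_assoc, mem_c.1 hx.2, mul_assoc, mul_assoc, h.D_comm h.card_D x hx.1 d hd]))⟩
    refine (card_mono e).trans ?_
    obtain ⟨b, hb, c, hc, rfl⟩ := (mem_sup_of_le_normalizer_left n1).1 ha
    rcases zp2 h.gg hb with rfl | rfl <;> rcases zp2 h.dd hc with rfl | rfl
    · exact absurd (by simpa using hd) hs'
    · rw [one_mul]; exact h.symm.cent_le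
    · rw [mul_one]; exact h.cent_le
    · exact h.mul.cent_le

end II

end Cfsg.Lib.SRank
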