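import Cfsg.Agent.Lib.SRank.Har2
import Cfsg.Agent.Lib.PGrp.TwoMax

/-! A self-centralizing `E₈` meeting a normal `E₈` in a four-group. -/

set_option autoImplicit false
set_option linter.unusedSectionVars false

namespace Cfsg.Lib.SRank

open Subgroup Cfsg.Lib.Invol Cfsg.Lib.Core
open scoped commutatorElement

variable {G : Type*} [Group G] [Finite G]

local notation "𝐂" A => centralizer ((A : Subgroup G) : Set G)
local notation "𝐂[" x "]" => centralizer ({x} : Set G)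

theorem comm_two {U W : Subgroup G} [hU : U.Normal] [hW : W.Normal] (h2 : U.relIndex W ≤ 2) {w : G} (hw : w ∈ W)
    (g : G) : w⁻¹ * (g * w * g⁻¹) ∈ U := by
  by_cases h1 : w ∈ U
  · exact mul_mem (inv_mem h1) (hU.conj_mem _ h1 g)
  · exact cos2 h2 hw (hW.conj_mem _ hw g) h1 fun e => h1 (by simpa [mul_assoc] using hU.conj_mem _ e g⁻¹)

theorem rel_quot {N S H K : Subgroup G} [N.Normal] {k : ℕ} (hS : SR k (S.map (QuotientGroup.mk' N))) (hH : H ≤ S)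
    (hK : ∀ x ∈ H, x * x ∈ K) : K.relIndex H ≤ k * K.relIndex (N ⊓ H) := by
  have e := rel_id K N H
  have h1 := hS (H.map (QuotientGroup.mk' N)) (map_mono hH) ((K ⊓ H).map (QuotientGroup.mk' N)) (by
    rintro _ ⟨x, hx, rfl⟩
    exact ⟨x * x, ⟨hK x hx, mul_mem hx hx⟩, map_mul _ _ _⟩)
  have h2 := card_mul_relIndex (map_mono (f := QuotientGroup.mk' N) (inf_le_right : K ⊓ H ≤ H))
  rw [card_map_mk'_eq_relIndex, card_map_mk'_eq_relIndex] at h2
  have h3 := Nat.pos_of_ne_zero (rel_ne N (K ⊓ H))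
  rw [← h2, mul_comm (N.relIndex (K ⊓ H)), ← mul_assoc] at e
  rw [Nat.eq_of_mul_eq_mul_right h3 e, mul_comm]
  exact Nat.mul_le_mul_right _ h1

structure CI (W A U : Subgroup G) (a : G) : Prop extends E8 W where
  UW : U ≤ W
  cardU : Nat.card U = 4
  cardA : Nat.card A = 8
  aa : a * a = 1
  aU : a ∈ (𝐂 U)
  aD : a ∉ (𝐂 W)
  fixA : ∀ x ∈ (𝐂 U), x * a = a * x → x ∈ A
  memA : ∀ x ∈ A, x ∈ U ∨ a⁻¹ * x ∈ U

namespace CI

variable {W A U : Subgroup G} {a : G} (h : CI W A U a)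
include h

theorem DU : (𝐂 W) ≤ (𝐂 U) := centralizer_le (by exact_mod_cast h.UW)

theorem fixD {x : G} (hx : x ∈ (𝐂 W)) (e : x * a = a * x) : x ∈ U :=
  (h.memA x (h.fixA x (h.DU hx) e)).resolve_right fun e =>
    h.aD (by simpa using mul_mem hx (inv_mem (h.WD (h.UW e))))

/-- the case where the intersection is not normal -/
theorem sr_of_not_normal (hn : ¬ U.Normal) : SR 16 (⊤ : Subgroup G) := by
  haveI := fact_two
  haveI := h.nrm
  haveI := h.Dn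
  obtain ⟨z, zW, zc, zo⟩ := PGrp.exists_central_orderOf_eq h.two W fun e => by
    have := h.card; rw [e, card_bot] at this; omega
  have cz : ∀ g, z * g = g * z := fun g => (mem_center_iff.1 zc g).symm
  have z1 : z ≠ 1 := fun e => by rw [e, orderOf_one] at zo; omega
  have zz := h.sq z zW
  have zU : z ∈ U := h.fixD (h.WD zW) (cz a)
  haveI : (zpowers z).Normal := ⟨fun x hx g => by
    rw [mem_center_iff.1 (zpowers_le.2 zc hx) g, mul_inv_cancel_right]; exact hx⟩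
  have cz2 : Nat.card (zpowers z) = 2 := by rw [Nat.card_zpowers, zo]
  obtain ⟨V, nV, zV, VW, cV⟩ := PGrp.exists_normal_between_card_eq h.two (zpowers z) W (zpowers_le.2 zW) 2
    (by rw [cz2]; norm_num) (by rw [h.card]; norm_num)
  obtain ⟨v, hv, hv'⟩ : ∃ v ∈ V, v ∉ U := by
    by_contra! e
    exact hn (eq_of_le_of_card_ge (show V ≤ U from e) (by rw [cV, h.cardU]; norm_num) ▸ nV)
  have nc : ∀ w ∈ W, w ∉ U → w ∉ 𝐂[a] := fun w hw h1 e => h1 (h.fixD (h.WD hw) (mem_c.1 e))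
  have hva : a * v * a⁻¹ * v⁻¹ = z := by
    have := comm_two (U := zpowers z) (rel2 (by rw [inf_eq_left.2 zV, cV, cz2]; norm_num)) hv a
    rw [h.comm _ (inv_mem (VW hv)) _ (h.nrm.conj_mem _ (VW hv) a)] at this
    refine (zp2 zz this).resolve_left fun e => nc v (VW hv) hv' (mem_c.2 ?_)
    rw [mul_inv_eq_one, mul_inv_eq_iff_eq_mul] at e; exact e.symm
  have acta : ∀ w ∈ W, w ∉ U → a * w * a⁻¹ = z * w := fun w hw h1 => by
    rw [← hva, ← h.comm_eq (by rw [h.aa]; exact one_mem _) hw (VW hv) (nc w hw h1) (nc v (VW hv) hv')]; group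
  have fixa : ∀ w ∈ U, a * w * a⁻¹ = w := fun w hw => by rw [← h.aU w hw]; group
  obtain ⟨u, hu, s, hs⟩ : ∃ u ∈ U, ∃ s, s * u * s⁻¹ ∉ U := by
    by_contra! e; exact hn ⟨e⟩
  have w0W := h.nrm.conj_mem _ (h.UW hu) s
  have act' : ∀ w ∈ W, s * a * s⁻¹ * w * (s * a * s⁻¹)⁻¹ = w ∨ s * a * s⁻¹ * w * (s * a * s⁻¹)⁻¹ = z * w :=
    fun w hw => by
      have e : s * a * s⁻¹ * w * (s * a * s⁻¹)⁻¹ = s * (a * (s⁻¹ * w * s⁻¹⁻¹) * a⁻¹) * s⁻¹ := by group
      by_cases h1 : s⁻¹ * w * s⁻¹⁻¹ ∈ U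
      · left; rw [e, fixa _ h1]; group
      · right; rw [e, acta _ (h.nrm.conj_mem _ hw _) h1, ← mul_assoc, ← cz s]; group
  have f0 : s * a * s⁻¹ * (s * u * s⁻¹) = s * u * s⁻¹ * (s * a * s⁻¹) := by
    calc _ = s * (a * u) * s⁻¹ := by group
      _ = _ := by rw [← h.aU u hu]; group
  have a0 := acta _ w0W hs
  have both : ∀ x ∈ (𝐂 W), x * a = a * x → x * (s * a * s⁻¹) = s * a * s⁻¹ * x → x ∈ zpowers z := fun x hx e1 e2 => by
    have x1 := h.fixD hx e1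
    have x2 : s⁻¹ * x * s⁻¹⁻¹ ∈ U := h.fixD (h.Dn.conj_mem _ hx _) (by
      calc s⁻¹ * x * s⁻¹⁻¹ * a = s⁻¹ * (x * (s * a * s⁻¹)) * s := by group
        _ = _ := by rw [e2]; group)
    by_contra hz
    have all := four_cases h.cardU.le zU x1 z1 (fun e => hz (e ▸ one_mem _)) (fun e => hz (e ▸ mem_zpowers z)) zz
    have : s⁻¹ ∈ normalizer (U : Set G) := mem_normalizer_of_conj_mem fun y hy => by
      have zs : s⁻¹ * z * s⁻¹⁻¹ = z := by rw [← cz]; group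
      rcases all y hy with e | e | e | e <;> rw [e]
      · simp
      · rwa [zs]
      · exact x2
      · rw [show s⁻¹ * (z * x) * s⁻¹⁻¹ = (s⁻¹ * z * s⁻¹⁻¹) * (s⁻¹ * x * s⁻¹⁻¹) by group, zs]
        exact mul_mem zU x2
    exact hs (conj_mem_of_mem_normalizer (inv_mem_iff.1 this) hu)
  have aa' := MC.conj_sq h.aa s
  generalize s * a * s⁻¹ = a' at *
  generalize s * u * s⁻¹ = w₀ at *
  have ia := inv_eq_of_mul_eq_one_right h.aa
  have ia' := inv_eq_of_mul_eq_one_right aa'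
  have inv : ∀ x ∈ (𝐂 W), a * x * a⁻¹ = x⁻¹ → a' * x * a'⁻¹ = x⁻¹ → x ∈ zpowers z := fun x hx e1 e2 => by
    obtain ⟨k, hk⟩ := h.two x
    induction k generalizing x with
    | zero => rw [pow_zero, pow_one] at hk; exact hk ▸ one_mem _
    | succ k ih =>
      have sqi : ∀ t : G, t * x * t⁻¹ = x⁻¹ → t * (x * x) * t⁻¹ = (x * x)⁻¹ := fun t e => by
        calc t * (x * x) * t⁻¹ = (t * x * t⁻¹) * (t * x * t⁻¹) := by group
          _ = _ := by rw [e]; group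
      rcases zp2 zz (ih _ (mul_mem hx hx) (sqi _ e1) (sqi _ e2) (by rw [← hk, ← sq, ← pow_mul, pow_succ'])) with e | e
      · rw [inv_eq_of_mul_eq_one_right e, mul_inv_eq_iff_eq_mul] at e1 e2
        exact both x hx e1.symm e2.symm
      · have := h.fixD (mul_mem hx (h.WD w0W)) (by
          rw [eq_comm, ← mul_inv_eq_iff_eq_mul]
          calc a * (x * w₀) * a⁻¹ = (a * x * a⁻¹) * (a * w₀ * a⁻¹) := by group
            _ = _ := by rw [e1, a0, ← e]; group)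
        have xW : x ∈ W := by simpa using mul_mem (h.UW this) (inv_mem w0W)
        exact absurd (e.symm.trans (h.sq x xW)) z1
  have bD : a * a' * (a * a') ∈ (𝐂 W) := fun w hw => by
    have zw := mul_mem zW hw
    have b1 : a * a' * w * (a * a')⁻¹ = w ∨ a * a' * w * (a * a')⁻¹ = z * w := by
      have e : a * a' * w * (a * a')⁻¹ = a * (a' * w * a'⁻¹) * a⁻¹ := by group
      have e2 : a * (z * w) * a⁻¹ = z * (a * w * a⁻¹) := by rw [← mul_assoc, ← cz a]; group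
      rcases act' w hw with e1 | e1 <;> rw [e, e1] <;> by_cases h1 : w ∈ U
      · exact .inl (fixa w h1)
      · exact .inr (acta w hw h1)
      · right; rw [e2, fixa w h1]
      · left; rw [e2, acta w hw h1, ← mul_assoc, zz, one_mul]
    generalize a * a' = b at *
    rw [eq_comm, ← mul_inv_eq_iff_eq_mul, show b * b * w * (b * b)⁻¹ = b * (b * w * b⁻¹) * b⁻¹ by group]
    rcases b1 with e | e
    · rw [e, e]
    · rw [e, ← mul_assoc, ← cz b, show z * b * w * b⁻¹ = z * (b * w * b⁻¹) by group, e, ← mul_assoc, zz, one_mul]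
  have bz := inv _ bD (by
    rw [mul_inv_rev, mul_inv_rev, ia, ia']
    calc a * (a * a' * (a * a')) * a = (a * a) * (a' * a * (a' * a)) := by group
      _ = _ := by rw [h.aa, one_mul]) (by
    rw [mul_inv_rev, mul_inv_rev, ia, ia']
    calc a' * (a * a' * (a * a')) * a' = (a' * a * (a' * a)) * (a' * a') := by group
      _ = _ := by rw [aa', mul_one])
  have e0 : a' * a = (a * a' * (a * a'))⁻¹ * (a * a') := by
    rw [mul_inv_rev, mul_inv_rev, ia, ia']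
    calc a' * a = a' * a * (a' * (a * a) * a') := by rw [h.aa, mul_one, aa', mul_one]
      _ = _ := by group
  rcases zp2 zz bz with e | e
  · exact II.sr (z := z) (γ := a) (δ := a') ⟨h.toE8, zW, cz, h.aa, aa', by rw [e0, e]; group, both⟩
  · refine II.sr (z := z) (γ := a) (δ := a' * w₀) ⟨h.toE8, zW, cz, h.aa, ?_, ?_, fun x hx e1 e2 => both x hx e1 ?_⟩
    · calc a' * w₀ * (a' * w₀) = a' * (w₀ * a') * w₀ := by group
        _ = (a' * a') * (w₀ * w₀) := by rw [← f0]; group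
        _ = 1 := by rw [aa', h.sq _ w0W, one_mul]
    · rw [e, inv_eq_of_mul_eq_one_right zz] at e0
      have a1 : w₀ * a = z * (a * w₀) := by
        rw [mul_inv_eq_iff_eq_mul.1 a0, ← mul_assoc, ← mul_assoc, zz, one_mul]
      rw [mul_assoc a', a1, ← mul_assoc a', ← cz a', mul_assoc z, ← mul_assoc a', e0, ← mul_assoc, ← mul_assoc,
        ← mul_assoc, zz, one_mul]
    · refine mul_right_cancel (b := w₀) ?_
      rw [mul_assoc, e2, mul_assoc, mul_assoc, hx _ w0W]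

theorem sqD [U.Normal] {k : G} (hk : k ∈ (𝐂 U)) : k * k ∈ (𝐂 W) := fun w hw => by
  have h1 := h.comm_U h.UW h.cardU hw k
  have h2 := hk _ h1
  have h3 := h.sq _ (h.UW h1)
  rw [eq_comm, ← mul_inv_eq_iff_eq_mul]
  generalize hv : k * w * k⁻¹ * w⁻¹ = v at *
  have e : k * w * k⁻¹ = v * w := by rw [← hv]; group
  calc k * k * w * (k * k)⁻¹ = k * (k * w * k⁻¹) * k⁻¹ := by group
    _ = (k * v) * k⁻¹ * (k * w * k⁻¹) := by nth_rewrite 1 [e]; group
    _ = (v * v) * w := by rw [← h2, e]; group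
    _ = w := by rw [h3, one_mul]

/-- the large case: a cyclic subgroup of index two modulo `W` -/
theorem exists_T [U.Normal] (hD : ¬ (𝐂 W) ≤ W) (h64 : 32 < Nat.card ↥(𝐂 U)) : ∃ (y x : G), y ∈ (𝐂 U) ∧
    (W ⊔ zpowers y).relIndex (𝐂 U) ≤ 2 ∧ x ∈ zpowers (y * y) ∧ x ∉ W ∧ (∀ k ∈ (𝐂 U), ⁅x, k⁆ ∈ W) ∧
    (∀ g ∈ W ⊔ zpowers y, g ∉ W → ∃ n : ℤ, x⁻¹ * g ^ n ∈ W) ∧ ∀ g ∈ W ⊔ zpowers y, g * g ∈ W → g ∈ W ∨ x⁻¹ * g ∈ W := by
  haveI := fact_two
  haveI := h.nrm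
  haveI := h.Dn
  have WU := h.WD.trans h.DU
  set S := (𝐂 U) with hS
  let π := QuotientGroup.mk' (W.subgroupOf S)
  have hπ : ∀ k : S, π k = 1 ↔ (k : G) ∈ W := fun k => QuotientGroup.eq_one_iff k
  have cW : Nat.card (W.subgroupOf S) = 8 := by rw [card_subgroupOf_of_le WU, h.card]
  have hY : IsPGroup 2 (S ⧸ W.subgroupOf S) := (h.two.to_subgroup S).to_quotient _
  obtain ⟨n, hn⟩ := IsPGroup.iff_card.1 hY
  have hn3 : 3 ≤ n := by
    have := card_eq_card_quotient_mul_card_subgroup (W.subgroupOf S)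
    rw [hn, cW] at this
    by_contra! e
    have := Nat.pow_le_pow_right two_pos (Nat.lt_succ_iff.1 e)
    omega
  let L := ((centralizer {π ⟨a, h.aU⟩}).comap π).map S.subtype
  have memL : ∀ k, k ∈ L ↔ k ∈ S ∧ ⁅k, a⁆ ∈ W := fun k => by
    constructor
    · rintro ⟨k, hk, rfl⟩
      refine ⟨k.2, (hπ ⁅k, ⟨a, h.aU⟩⁆).1 ?_⟩
      rw [map_commutatorElement, commutatorElement_eq_one_iff_mul_comm]
      exact mem_centralizer_singleton_iff.1 hk
    · rintro ⟨h1, h2⟩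
      refine ⟨⟨k, h1⟩, mem_centralizer_singleton_iff.2 ?_, rfl⟩
      rw [← commutatorElement_eq_one_iff_mul_comm, ← map_commutatorElement]
      exact (hπ _).2 h2
  have cL : Nat.card L = Nat.card (centralizer {π ⟨a, h.aU⟩}) * 8 := by
    rw [card_map_subtype, card_comap_mk', cW]
  have c1 : Nat.card L ≤ 32 := by
    have h1 := PGrp.card_le_card_centralizer_mul (W := L) (Z := U) (a := a) fun k hk =>
      h.fixD (h.WD ((memL k).1 hk).2) (mem_c.1 (inv_comm h.aa (h.sq _ ((memL k).1 hk).2)))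
    have h2 : Nat.card ↥(L ⊓ 𝐂[a]) ≤ Nat.card A := card_mono fun k hk => h.fixA k ((memL k).1 hk.1).1 (mem_c.1 hk.2)
    rw [h.cardU] at h1
    rw [h.cardA] at h2
    omega
  have c2 : 32 ≤ Nat.card L := by
    obtain ⟨x, hx, hx', -, hc⟩ := PGrp.exists_mem_central_mod h.two W (𝐂 W) hD
    have l1 : W < L ⊓ (𝐂 W) := lt_of_le_of_ne (fun w hw => ⟨(memL w).2 ⟨WU hw, by
      rw [commutatorElement_def]
      simpa [mul_assoc] using mul_mem hw (h.nrm.conj_mem _ (inv_mem hw) a)⟩, h.WD hw⟩)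
      fun e => hx' (e ▸ mem_inf.2 ⟨(memL x).2 ⟨h.DU hx, hc a⟩, hx⟩)
    have l2 : L ⊓ (𝐂 W) < L := lt_of_le_of_ne inf_le_left fun e =>
      h.aD ((inf_eq_left.1 e) ((memL a).2 ⟨h.aU, by simp⟩))
    have := PGrp.mul_card_le_of_lt (h.two.to_subgroup _) l1
    have := PGrp.mul_card_le_of_lt (h.two.to_subgroup _) l2
    have := h.card
    omega
  obtain ⟨y', b, hm⟩ := PGrp.exists_max2_of_maxClass hn3 hn
    (PGrp.maxClass_of_centralizer hn (x := π ⟨a, h.aU⟩) (by omega))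
  obtain ⟨y, rfl⟩ := QuotientGroup.mk'_surjective _ y'
  generalize n - 3 = m at hm
  change PGrp.Max2 (π y) b m at hm
  have memT : ∀ k : S, (k : G) ∈ W ⊔ zpowers (y : G) ↔ π k ∈ zpowers (π y) := fun k => by
    constructor
    · intro hk
      obtain ⟨w, hw, _, ⟨i, rfl⟩, e⟩ := (mem_sup_of_le_normalizer_left le_normalizer_of_normal).1 hk
      have : k = ⟨w, WU hw⟩ * y ^ i := Subtype.ext (by simpa using e.symm)
      rw [this, map_mul, (hπ ⟨w, WU hw⟩).2 hw, one_mul, map_zpow]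
      exact zpow_mem_zpowers _ _
    · rintro ⟨i, e⟩
      have : π (k * (y ^ i)⁻¹) = 1 := by rw [map_mul, map_inv, map_zpow, ← e]; simp
      have := mul_mem (mem_sup_left (T := zpowers (y : G)) ((hπ _).1 this))
        (mem_sup_right (zpow_mem_zpowers (y : G) i))
      simpa using this
  have TS : W ⊔ zpowers (y : G) ≤ S := sup_le WU (zpowers_le.2 y.2)
  have oz := hm.orderOf_z
  rw [← map_pow] at oz
  have xm : π (y ^ 2 ^ (m + 1)) ∈ zpowers (π y) := by rw [map_pow]; exact npow_mem_zpowers _ _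
  have eqx : ∀ k : S, π k ∈ zpowers (π y) → orderOf (π k) = 2 → ((y : G) ^ 2 ^ (m + 1))⁻¹ * k ∈ W := fun k h1 h2 => by
    have := eq_of_mem_zpowers xm h1 oz h2
    exact (hπ ((y ^ 2 ^ (m + 1))⁻¹ * k)).1 (by rw [map_mul, map_inv, this, inv_mul_cancel])
  refine ⟨y, (y : G) ^ 2 ^ (m + 1), y.2, ?_, ?_, fun e => ?_, fun k hk => ?_, fun g hg hg' => ?_, fun g hg hg' => ?_⟩
  · have : (W ⊔ zpowers (y : G)).subgroupOf S = (zpowers (π y)).comap π := Subgroup.ext memT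
    rw [relIndex, this, index_comap_of_surjective _ (QuotientGroup.mk'_surjective _), hm.index]
  · rw [← sq, pow_succ' 2 m, pow_mul]; exact npow_mem_zpowers _ _
  · rw [(hπ (y ^ 2 ^ (m + 1))).2 e, orderOf_one] at oz; omega
  · have := hm.z_mem_center
    rw [← map_pow] at this
    exact (PGrp.mk_mem_center_iff _ _).1 this ⟨k, hk⟩
  · have h1 := (memT ⟨g, TS hg⟩).1 hg
    obtain ⟨j, hj⟩ := hY.exists_orderOf_eq_pow (π ⟨g, TS hg⟩)
    obtain ⟨t, ⟨i, rfl⟩, ht⟩ := exists_two_zpowers_of_even (x := π ⟨g, TS hg⟩) (by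
      rw [hj]
      rcases j with _ | j
      · exact absurd ((hπ _).1 (orderOf_eq_one_iff.1 hj)) hg'
      · exact even_two.pow_of_ne_zero (by omega))
    simp only [← map_zpow] at ht
    exact ⟨i, eqx _ (by rw [map_zpow]; exact zpow_mem h1 i) ht⟩
  · refine or_iff_not_imp_left.2 fun e => eqx ⟨g, TS hg⟩ ((memT _).1 hg) (orderOf_eq_prime ?_ (mt (hπ _).1 e))
    rw [sq, ← map_mul]; exact (hπ _).2 hg'

theorem sr_large [hU : U.Normal] (hD : ¬ (𝐂 W) ≤ W) (h64 : 32 < Nat.card ↥(𝐂 U)) : SR 16 (⊤ : Subgroup G) := by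
  haveI := fact_two
  haveI := h.nrm
  haveI := h.Dn
  obtain ⟨y, x, yS, t1, xy, xW, xc, t4, t5⟩ := h.exists_T hD h64
  have WU := h.WD.trans h.DU
  have TS : W ⊔ zpowers y ≤ (𝐂 U) := sup_le WU (zpowers_le.2 yS)
  have xD : x ∈ (𝐂 W) := zpowers_le.2 (h.sqD yS) xy
  have t3 : W ⊔ zpowers y ≤ 𝐂[x] := sup_le (fun w hw => mem_c.2 (xD w hw)) (zpowers_le.2 (mem_c.2 (by
    obtain ⟨i, rfl⟩ := xy
    exact (((Commute.refl y).mul_right (Commute.refl y)).zpow_right i))))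
  have t5' : ∀ g ∈ W ⊔ zpowers y, g * g = 1 → g ∈ (𝐂 W) := fun g hg e => by
    rcases t5 g hg (e ▸ one_mem _) with e | e
    · exact h.WD e
    · simpa using mul_mem xD (h.WD e)
  have t6 : (𝐂 W).relIndex (W ⊔ zpowers y) ≤ 2 := by
    refine (rel_mono (S := (𝐂 W) ⊔ zpowers y) (sup_le_sup_right h.WD _)).trans ?_
    by_cases e : y ∈ (𝐂 W)
    · rw [relIndex_eq_one.2 (sup_le le_rfl (zpowers_le.2 e))]; omega
    · exact (PGrp.relIndex_sup_zpowers e (by rw [sq]; exact h.sqD yS)).le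
  have t7 : SR 2 ((W ⊔ zpowers y).map (QuotientGroup.mk' W)) := by
    rw [Subgroup.map_sup, (map_mk'_eq_bot_iff W W).2 le_rfl, bot_sup_eq, MonoidHom.map_zpowers]
    exact sr_zpowers _
  have WT : W ≤ W ⊔ zpowers y := le_sup_left
  generalize W ⊔ zpowers y = T at *
  have aT : a ∉ T := fun e => h.aD (t5' a e h.aa)
  have xa : ⁅x, a⁆ ≠ 1 := fun e => xW (h.UW (h.fixD xD (commutatorElement_eq_one_iff_mul_comm.1 e)))
  have xk : ∀ k ∈ (𝐂 U), k ∉ T → ⁅x, k⁆ = ⁅x, a⁆ := fun k hk hk' => by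
    have := mem_c.1 (t3 (cos2 t1 h.aU hk aT hk'))
    calc ⁅x, k⁆ = x * a * x⁻¹ * (x * (a⁻¹ * k)) * x⁻¹ * k⁻¹ := by simp only [commutatorElement_def]; group
      _ = _ := by rw [← this]; simp only [commutatorElement_def]; group
  intro H _ K hK
  by_contra! hbig
  have r1 := rel_le K T H
  have r2 := rel_quot t7 (inf_le_left : T ⊓ H ≤ T) fun g hg => hK g hg.2
  rw [← inf_assoc, inf_eq_left.2 WT] at r2
  have r3 : T.relIndex H = T.relIndex ((𝐂 U) ⊓ H) * (𝐂 U).relIndex H := by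
    rw [relIndex_inf_mul_relIndex, inf_eq_left.2 TS]
  have r4 : T.relIndex ((𝐂 U) ⊓ H) ≤ 2 := (rel_mono inf_le_left).trans t1
  have r5 : (𝐂 U).relIndex H ≤ 2 := (PGrp.relIndex_le_index _ _).trans
    (PGrp.index_centralizer_le_of_card_le_sq h.two U h.cardU.le)
  have r6 := card_inf_mul_relIndex K (W ⊓ H)
  have r7 : Nat.card ↥(W ⊓ H) ≤ 8 := h.card ▸ card_mono inf_le_left
  have r8 : 0 < Nat.card ↥(K ⊓ (W ⊓ H)) := Nat.card_pos
  have cK : ∀ g ∈ H, ∀ k ∈ H, ⁅g, k⁆ ∈ K := fun g hg k hk => comm_mem hK hg hk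
  have cH : ∀ g ∈ H, ∀ k ∈ H, ⁅g, k⁆ ∈ H := fun g hg k hk =>
    mul_mem (mul_mem (mul_mem hg hk) (inv_mem hg)) (inv_mem hk)
  have one : Nat.card ↥(K ⊓ (W ⊓ H)) ≤ 1 → ∀ g ∈ H, ∀ k ∈ H, ⁅g, k⁆ ∈ W → ⁅g, k⁆ = 1 := fun e g hg k hk hw =>
    mem_bot.1 (eq_bot_of_card_le _ e ▸ mem_inf.2 ⟨cK g hg k hk, mem_inf.2 ⟨hw, cH g hg k hk⟩⟩)
  -- an element of `x W` in `H`
  have xH : ¬ T ⊓ H ≤ W → ∃ w ∈ W, x * w ∈ H := fun e => by
    obtain ⟨g, hg, hg'⟩ := SetLike.not_le_iff_exists.1 e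
    obtain ⟨n, hn⟩ := t4 g hg.1 hg'
    exact ⟨_, hn, by simpa using zpow_mem (mem_inf.1 hg).2 n⟩
  have TW : T ⊓ H ≤ W → K.relIndex (T ⊓ H) = K.relIndex (W ⊓ H) := fun e => by
    rw [le_antisymm (le_inf e inf_le_right) (inf_le_inf_right H WT)]
  have xw : ∀ w ∈ W, ∀ k ∈ (𝐂 W), ⁅x * w, k⁆ = ⁅x, k⁆ := fun w hw k hk => by
    simp only [commutatorElement_def]
    calc x * w * k * (x * w)⁻¹ * k⁻¹ = x * (w * k) * (x * w)⁻¹ * k⁻¹ := by group
      _ = _ := by rw [hk w hw]; group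
  have noD : Nat.card ↥(K ⊓ (W ⊓ H)) ≤ 1 → ¬ T ⊓ H ≤ W → ∀ k ∈ H, k ∈ (𝐂 W) → k ∈ T := fun e1 e2 k hk hk' => by
    by_contra e3
    obtain ⟨w, hw, hx⟩ := xH e2
    have := one e1 _ hx k hk (by rw [xw w hw k hk']; exact xc k (h.DU hk'))
    rw [xw w hw k hk', xk k (h.DU hk') e3] at this
    exact xa this
  by_cases hHD : H ≤ (𝐂 W)
  · rw [relIndex_eq_one.2 (hHD.trans h.DU), mul_one] at r3
    have s1 : 8 < K.relIndex (T ⊓ H) := by nlinarith
    have s2 : Nat.card ↥(K ⊓ (W ⊓ H)) ≤ 1 := by nlinarith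
    have s3 : ¬ T ⊓ H ≤ W := fun e => by rw [TW e] at s1; nlinarith
    have s4 : H ≤ T := fun k hk => noD s2 s3 k hk (hHD hk)
    rw [relIndex_eq_one.2 s4] at r1
    nlinarith
  obtain ⟨k₀, k0H, k0D⟩ := SetLike.not_le_iff_exists.1 hHD
  have s0 : K.relIndex (W ⊓ H) ≤ 4 := by
    have := rho_fix h.comm hK k0H
    have := proper h.two k0D
    have := h.card
    omega
  have s1 : 2 < T.relIndex H := by nlinarith
  obtain ⟨s, sH, sU⟩ : ∃ s ∈ H, s ∉ (𝐂 U) := by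
    by_contra! e
    rw [relIndex_eq_one.2 e] at r3; omega
  obtain ⟨k, hk, kT⟩ : ∃ k ∈ (𝐂 U) ⊓ H, k ∉ T := by
    by_contra! e
    rw [relIndex_eq_one.2 e] at r3; omega
  obtain ⟨kU, kH⟩ := mem_inf.1 hk
  have s2 : 4 < K.relIndex (T ⊓ H) := by nlinarith
  have s3 : ¬ T ⊓ H ≤ W := fun e => by rw [TW e] at s2; omega
  have s4 : 4 ≤ K.relIndex (W ⊓ H) := by
    by_contra! e
    have := rel_le_of_lt h.two (k := 1) e
    omega
  have cW : ∀ w ∈ W, ∀ g, ⁅w, g⁆ ∈ W := fun w hw g => by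
    rw [commutatorElement_def]
    simpa [mul_assoc] using mul_mem hw (h.nrm.conj_mem _ (inv_mem hw) g)
  by_cases hWH : W ≤ H
  swap
  · have u1 : Nat.card ↥(W ⊓ H) ≤ 4 := by
      have := PGrp.mul_card_le_of_lt (h.two.to_subgroup W)
        (lt_of_le_of_ne (inf_le_left : W ⊓ H ≤ W) fun e => hWH (inf_eq_left.1 e))
      have := h.card
      omega
    have u2 : Nat.card ↥(K ⊓ (W ⊓ H)) ≤ 1 := by nlinarith
    have u3 : ∀ g ∈ H, W ⊓ H ≤ W ⊓ 𝐂[g] := fun g hg w hw =>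
      ⟨hw.1, mem_c.2 (commutatorElement_eq_one_iff_mul_comm.1 (one u2 w hw.2 g hg (cW w hw.1 g)))⟩
    have u4 : k ∉ (𝐂 W) := fun e => kT (noD u2 s3 k kH e)
    have u5 := proper h.two u4
    rw [h.card] at u5
    have u6 : U = W ⊓ 𝐂[k] := eq_of_le_of_card_ge (fun u hu => ⟨h.UW hu, mem_c.2 (kU u hu)⟩) (by rw [h.cardU]; omega)
    have u7 : W ⊓ H = W ⊓ 𝐂[k] := eq_of_le_of_card_ge (u3 k kH) (by nlinarith)
    exact sU fun u hu => mem_c.1 (u3 s sH (u7 ▸ u6 ▸ hu)).2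
  rw [inf_eq_left.2 hWH] at *
  have v1 : Nat.card ↥(K ⊓ W) ≤ 2 := by nlinarith
  obtain ⟨u, hu, us⟩ : ∃ u ∈ U, ⁅s, u⁆ ≠ 1 := by
    by_contra! e
    exact sU fun u hu => (commutatorElement_eq_one_iff_mul_comm.1 (e u hu)).symm
  have cW' : ∀ g, ∀ w ∈ W, ⁅g, w⁆ ∈ W := fun g w hw => by
    rw [← commutatorElement_inv]; exact inv_mem (cW w hw g)
  have zK : ⁅s, u⁆ ∈ K ⊓ W := ⟨cK s sH u (hWH (h.UW hu)), cW' s u (h.UW hu)⟩
  have zU : ⁅s, u⁆ ∈ U := mul_mem (hU.conj_mem _ hu s) (inv_mem hu)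
  generalize ⁅s, u⁆ = z at *
  have zz := h.sq z zK.2
  have kw : K ⊓ W = zpowers z := (eq_of_le_of_card_ge (zpowers_le.2 zK) (by
    rw [Nat.card_zpowers, orderOf_eq_prime (by rw [sq, zz]) us]; exact v1)).symm
  have zs : s * z * s⁻¹ = z := by
    have h1 : s * z * s⁻¹ ∈ K ⊓ W := by
      have := mul_mem (mem_inf.2 ⟨cK s sH z (hWH zK.2), cW' s z zK.2⟩) zK
      simpa [commutatorElement_def] using this
    exact (zp2 zz (kw ▸ h1)).resolve_left (by simpa using us)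
  obtain ⟨b, hb, bU, hB⟩ := h.split h.UW h.cardU
  have xH' : x ∈ H := by
    obtain ⟨w, hw, e⟩ := xH s3
    simpa using mul_mem e (inv_mem (hWH hw))
  have xaz : ⁅x, a⁆ = z := by
    have := mem_inf.2 ⟨cK x xH' k kH, xc k kU⟩
    rw [xk k kU kT, kw] at this
    exact (zp2 zz this).resolve_left xa
  have p0 : ⁅a, b⁆ ∉ zpowers z := fun e => by
    rcases zp2 zz e with e | e
    · exact bU (h.fixD (h.WD hb) (commutatorElement_eq_one_iff_mul_comm.1 e).symm)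
    · have h1 := h.fixD (mul_mem xD (h.WD hb)) (commutatorElement_eq_one_iff_mul_comm.1 (by
        calc ⁅x * b, a⁆ = x * ⁅a, b⁆⁻¹ * x⁻¹ * ⁅x, a⁆ := by simp only [commutatorElement_def]; group
          _ = 1 := by rw [e, xaz, ← xD _ (inv_mem zK.2)]; group))
      exact xW (by simpa using mul_mem (h.UW h1) (inv_mem hb))
  have pU : ⁅a, b⁆ ∈ U := h.comm_U h.UW h.cardU hb a
  have p1 : ⁅s * a * s⁻¹, b⁆ = s * ⁅a, b⁆ * s⁻¹ := (conj_comm hb hB h.aU s).symm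
  have p2 : s * ⁅a, b⁆ * s⁻¹ ≠ ⁅a, b⁆ := fun e => sU fun v hv => by
    have e1 := mul_inv_eq_iff_eq_mul.1 e
    have e2 := mul_inv_eq_iff_eq_mul.1 zs
    rcases four_cases h.cardU.le zU pU us (fun e => p0 (e ▸ one_mem _)) (fun e => p0 (e ▸ mem_zpowers z)) zz v hv
      with e | e | e | e <;> rw [e]
    · simp
    · exact e2.symm
    · exact e1.symm
    · rw [mul_assoc, ← e1, ← mul_assoc, ← e2, mul_assoc]
  have p3 : s * ⁅a, b⁆ * s⁻¹ ∉ zpowers z := fun e => p0 (by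
    rcases zp2 zz e with e | e
    · rw [show ⁅a, b⁆ = 1 by simpa using e]; exact one_mem _
    · rw [← zs] at e
      rw [show ⁅a, b⁆ = z by simpa using e]; exact mem_zpowers z)
  have p4 : ⁅k, b⁆ ∈ zpowers z := kw ▸ mem_inf.2 ⟨cK k kH b (hWH hb), cW' k b hb⟩
  have same : ∀ g g' : G, g⁻¹ * g' ∈ (𝐂 W) → ⁅g', b⁆ = ⁅g, b⁆ := fun g g' e => by
    have := e b hb
    simp only [commutatorElement_def]
    calc g' * b * g'⁻¹ * b⁻¹ = g * (g⁻¹ * g' * b) * g'⁻¹ * b⁻¹ := by group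
      _ = _ := by rw [← this]; group
  have a'U : s * a * s⁻¹ ∈ (𝐂 U) := (inferInstance : (𝐂 U).Normal).conj_mem _ h.aU s
  have a'T : s * a * s⁻¹ ∉ T := fun e => p3 (by
    rw [← p1, same 1 _ (by simpa using t5' _ e (MC.conj_sq h.aa s))]; simp)
  have q := cos2 t6 (cos2 t1 h.aU a'U aT a'T) (cos2 t1 h.aU kU aT kT) (fun e => p2 (p1 ▸ same _ _ e))
    fun e => p0 (same _ _ e ▸ p4)
  rw [show (a⁻¹ * (s * a * s⁻¹))⁻¹ * (a⁻¹ * k) = (s * a * s⁻¹)⁻¹ * k by group] at q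
  exact p3 (p1 ▸ same _ _ q ▸ p4)

theorem sr : SR 16 (⊤ : Subgroup G) := by
  haveI := fact_two
  by_cases hU : U.Normal
  swap
  · exact h.sr_of_not_normal hU
  by_cases hD : (𝐂 W) ≤ W
  · exact h.ab8 hD
  by_cases h64 : 32 < Nat.card ↥(𝐂 U)
  · exact h.sr_large hD h64
  have c1 := PGrp.mul_card_le_of_lt (h.two.to_subgroup _) (lt_of_le_of_ne h.WD fun e => hD e.ge)
  have c2 := PGrp.mul_card_le_of_lt (h.two.to_subgroup _) (lt_of_le_of_ne h.DU fun e => h.aD (e ▸ h.aU))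
  rw [h.card] at c1
  have r : (𝐂 W).relIndex (𝐂 U) ≤ 2 := rel2 (by rw [inf_eq_left.2 h.DU]; omega)
  refine h.ab (by omega) (PGrp.index_centralizer_le_of_card_le_sq h.two U h.cardU.le) fun s hs hs' => ?_
  refine (card_mono (H := (𝐂 W) ⊓ 𝐂[s]) fun x hx => h.fixD hx.1 ?_).trans h.cardU.le
  have e1 := h.D_comm (by omega) x hx.1 _ (cos2 r h.aU hs h.aD hs')
  have e2 := mem_c.1 hx.2
  calc x * a = x * s * (a⁻¹ * s)⁻¹ := by group
    _ = s * (x * (a⁻¹ * s)) * (a⁻¹ * s)⁻¹ * (a⁻¹ * s)⁻¹ := by rw [e2]; group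
    _ = s * (a⁻¹ * s)⁻¹ * ((a⁻¹ * s) * ((a⁻¹ * s) * x) * (a⁻¹ * s)⁻¹ * (a⁻¹ * s)⁻¹) := by rw [e1]; group
    _ = _ := by rw [← e1, mul_assoc (a⁻¹ * s), mul_inv_cancel_right, ← e1]; group

end CI

/-- Harada: a 2-group with a self-centralizing `E₈` has sectional rank at most four -/
theorem harada (hG : IsPGroup 2 G) {A : Subgroup G} (hA : ∀ a ∈ A, a * a = 1) (h8 : Nat.card A = 8)
    (hC : (𝐂 A) ≤ A) : SR 16 (⊤ : Subgroup G) := by
  haveI := fact_two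
  by_cases e : ∀ N : Subgroup G, N.Normal → (∀ a ∈ N, a * a = 1) → Nat.card N ≤ 4
  · exact macWilliams hG e
  push Not at e
  obtain ⟨N, nN, sN, cN⟩ := e
  obtain ⟨W, nW, WN, cW⟩ := PGrp.exists_normal_le_card_eq hG N 3
    (PGrp.pow_succ_le_card_of_lt (k := 2) (hG.to_subgroup N) cN)
  have h : E8 W := ⟨hG, nW, fun w hw => sN w (WN hw), cW⟩
  have cA := comm_of_sq hA
  by_cases hAW : A ≤ W
  · exact h.ab8 (((centralizer_le (by exact_mod_cast hAW)).trans hC).trans hAW)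
  have c1 := PGrp.mul_card_le_of_lt (hG.to_subgroup A)
    (lt_of_le_of_ne (inf_le_left : A ⊓ W ≤ A) fun e => hAW (inf_eq_left.1 e))
  rw [h8] at c1
  by_cases c2 : Nat.card ↥(A ⊓ W) = 4
  · obtain ⟨a, ha, ha'⟩ := SetLike.not_le_iff_exists.1 hAW
    have r : (A ⊓ W).relIndex A ≤ 2 := rel2 (by rw [inf_eq_left.2 inf_le_left, c2, h8])
    have mA : ∀ x ∈ A, x ∈ A ⊓ W ∨ a⁻¹ * x ∈ A ⊓ W := fun x hx =>
      or_iff_not_imp_left.2 (cos2 r ha hx fun e => ha' e.2)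
    have fA : ∀ x ∈ (𝐂 (A ⊓ W)), x * a = a * x → x ∈ A := fun x hx e => hC fun y hy => by
      rcases mA y hy with e1 | e1
      · exact hx y e1
      · have := hx _ e1
        calc y * x = a * (a⁻¹ * y * x) := by group
          _ = _ := by rw [this, ← mul_assoc, ← e]; group
    refine CI.sr (a := a) ⟨h, inf_le_right, c2, h8, hA a ha, fun u hu => cA u hu.1 a ha, fun e => ?_, fA, mA⟩
    have : W ≤ A ⊓ W := fun w hw => ⟨fA w (fun u hu => h.comm u hu.2 w hw) (e w hw), hw⟩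
    have := card_mono this
    rw [cW, c2] at this; omega
  have c3 : Nat.card ↥(A ⊓ W) ≤ 2 := PGrp.card_le_pow_of_lt (k := 1) (hG.to_subgroup _) (by omega)
  obtain ⟨z, zW, zc, zo⟩ := PGrp.exists_central_orderOf_eq hG W fun e => by
    rw [e, card_bot] at cW; omega
  have cz : ∀ g, z * g = g * z := fun g => (mem_center_iff.1 zc g).symm
  have zA : z ∈ A := hC fun a _ => (cz a).symm
  have cz2 : Nat.card (zpowers z) = 2 := by rw [Nat.card_zpowers, zo]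
  have AW : zpowers z = A ⊓ W := eq_of_le_of_card_ge (zpowers_le.2 ⟨zA, zW⟩) (by omega)
  have gen : ∀ γ ∈ A, γ ∉ zpowers z → ∃ δ ∈ A, ∀ g, g * γ = γ * g → g * δ = δ * g → g ∈ A := fun γ hγ hγ' => by
    have l1 : zpowers z < zpowers z ⊔ zpowers γ := lt_of_le_of_ne le_sup_left fun e =>
      hγ' (e ▸ mem_sup_right (mem_zpowers γ))
    have d1 := PGrp.mul_card_le_of_lt (hG.to_subgroup _) l1
    have d2 : Nat.card ↥(zpowers z ⊔ zpowers γ) ≤ 4 := by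
      have := Nat.le_of_dvd (Nat.mul_pos Nat.card_pos Nat.card_pos) (card_sup_dvd' (H := zpowers z) (K := zpowers γ)
        (zpowers_le.2 (mem_normalizer_zpowers_of_commute (cz γ).symm)))
      have := card_zp2 (hA γ hγ)
      nlinarith
    have d3 : zpowers z ⊔ zpowers γ ≤ A := sup_le (zpowers_le.2 zA) (zpowers_le.2 hγ)
    obtain ⟨δ, hδ, hδ'⟩ : ∃ δ ∈ A, δ ∉ zpowers z ⊔ zpowers γ := by
      by_contra! e
      have := card_mono (show A ≤ _ from e)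
      omega
    have l2 : zpowers z ⊔ zpowers γ < zpowers z ⊔ zpowers γ ⊔ zpowers δ := lt_of_le_of_ne le_sup_left fun e =>
      hδ' (e ▸ mem_sup_right (mem_zpowers δ))
    have d4 := PGrp.mul_card_le_of_lt (hG.to_subgroup _) l2
    have d5 : zpowers z ⊔ zpowers γ ⊔ zpowers δ = A := eq_of_le_of_card_ge (sup_le d3 (zpowers_le.2 hδ)) (by omega)
    refine ⟨δ, hδ, fun g e1 e2 => hC ?_⟩
    rw [← d5, centralizer_sup, centralizer_sup, centralizer_zpowers, centralizer_zpowers, centralizer_zpowers]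
    exact ⟨⟨mem_c.2 (cz g).symm, mem_c.2 e1⟩, mem_c.2 e2⟩
  have AD : ∀ x ∈ A, x ∈ (𝐂 W) → x ∈ zpowers z := fun x hx hx' => by
    by_contra e
    obtain ⟨δ, hδ, hg⟩ := gen x hx e
    have h1 := h.fix4 (g := δ) (by rw [hA δ hδ]; exact one_mem _)
    have h2 : W ⊓ 𝐂[δ] ≤ A ⊓ W := fun w hw => ⟨hg w (hx' w hw.1) (mem_c.1 hw.2), hw.1⟩
    have := card_mono h2
    omega
  obtain ⟨γ, hγ, hγ'⟩ := SetLike.not_le_iff_exists.1 hAW
  obtain ⟨δ, hδ, hg⟩ := gen γ hγ fun e => hγ' (zpowers_le.2 zW e)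
  exact II.sr (z := z) (γ := γ) (δ := δ) ⟨h, zW, cz, hA γ hγ, hA δ hδ, cA γ hγ δ hδ,
    fun x hx e1 e2 => AD x (hg x e1 e2) hx⟩

end Cfsg.Lib.SRank
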