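import Cfsg.Agent.Lib.SRank.Har3

/-! A self-centralizing central product of two quaternion groups. -/

set_option autoImplicit false
set_option linter.unusedSectionVars false
set_option synthInstance.maxSize 5000
set_option synthInstance.maxHeartbeats 400000

namespace Cfsg.Lib.SRank

open Subgroup Cfsg.Lib.Invol Cfsg.Lib.Core

variable {G : Type*} [Group G] [Finite G]

local notation "𝐂" A => centralizer ((A : Subgroup G) : Set G)
local notation "𝐂[" x "]" => centralizer ({x} : Set G)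

structure Qd (R : Subgroup G) (z : G) : Prop where
  zR : z ∈ R
  z1 : z ≠ 1
  zz : z * z = 1
  sq : ∀ x ∈ R, x * x = 1 → x = 1 ∨ x = z
  sq' : ∀ x ∈ R, x * x = 1 ∨ x * x = z
  cm : ∀ x ∈ R, ∀ y ∈ R, x * y = y * x ∨ x * y = z * (y * x)
  cm2 : ∀ x ∈ R, ∀ y ∈ R, x * x = z → y * y = z → x * y = y * x → x * y * (x * y) = 1
  gen : ∀ x ∈ R, ∀ y ∈ R, x * y ≠ y * x → ∀ q ∈ R, ∃ r, (r = q ∨ z * r = q) ∧ (r = 1 ∨ r = x ∨ r = y ∨ r = x * y)
  cen : ∀ x ∈ R, (∀ y ∈ R, x * y = y * x) → x * x = 1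
  ex : ∃ x ∈ R, ∃ y ∈ R, x * y ≠ y * x

theorem exists_Qd {R : Subgroup G} (e : R ≃* QuaternionGroup 2) : ∃ z, Qd R z := by
  have tr : ∀ x y : R, (x : G) = y ↔ e x = e y := fun x y => by rw [e.apply_eq_iff_eq, Subtype.ext_iff]
  let z := e.symm (.a 2)
  have hz : e z = .a 2 := e.apply_symm_apply _
  refine ⟨z, z.2, ?_, ?_, fun x hx => ?_, fun x hx => ?_, fun x hx y hy => ?_, fun x hx y hy => ?_,
    fun x hx y hy h q hq => ?_, fun x hx h => ?_, ?_⟩
  · change ¬ (z : G) = (1 : R); rw [tr, hz, map_one]; decide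
  · change ((z * z : R) : G) = (1 : R); rw [tr, map_mul, hz, map_one]; decide
  · lift x to R using hx
    change ((x * x : R) : G) = (1 : R) → (x : G) = (1 : R) ∨ _
    simp only [tr, map_mul, map_one, hz]; generalize e x = u; revert u; decide
  · lift x to R using hx
    change ((x * x : R) : G) = (1 : R) ∨ ((x * x : R) : G) = z
    simp only [tr, map_mul, map_one, hz]; generalize e x = u; revert u; decide
  · lift x to R using hx
    lift y to R using hy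
    change ((x * y : R) : G) = (y * x : R) ∨ ((x * y : R) : G) = (z * (y * x) : R)
    simp only [tr, map_mul, hz]; generalize e x = u; generalize e y = v; revert u v; decide
  · lift x to R using hx
    lift y to R using hy
    change ((x * x : R) : G) = z → ((y * y : R) : G) = z → ((x * y : R) : G) = (y * x : R) →
      ((x * y * (x * y) : R) : G) = (1 : R)
    simp only [tr, map_mul, map_one, hz]; generalize e x = u; generalize e y = v; revert u v; decide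
  · lift x to R using hx
    lift y to R using hy
    lift q to R using hq
    have key : ∀ u v w : QuaternionGroup 2, u * v ≠ v * u →
      ∃ r, (r = w ∨ .a 2 * r = w) ∧ (r = 1 ∨ r = u ∨ r = v ∨ r = u * v) := by decide
    obtain ⟨r, h1, h2⟩ := key (e x) (e y) (e q) fun e' => h ((tr (x * y) (y * x)).2 (by simpa using e'))
    obtain ⟨r, rfl⟩ := e.surjective r
    refine ⟨r, ?_, ?_⟩
    · change (r : G) = q ∨ ((z * r : R) : G) = q
      simpa only [tr, map_mul, hz] using h1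
    · change (r : G) = (1 : R) ∨ (r : G) = x ∨ (r : G) = y ∨ (r : G) = (x * y : R)
      simpa only [tr, map_mul, map_one] using h2
  · lift x to R using hx
    have key : ∀ u : QuaternionGroup 2, (∀ v, u * v = v * u) → u * u = 1 := by decide
    change ((x * x : R) : G) = (1 : R)
    rw [tr, map_mul, map_one]
    refine key _ fun v => ?_
    obtain ⟨y, rfl⟩ := e.surjective v
    simpa using (tr (x * y) (y * x)).1 (h y y.2)
  · refine ⟨_, (e.symm (.a 1)).2, _, (e.symm (.xa 0)).2, fun h => ?_⟩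
    have := (tr (e.symm (.a 1) * e.symm (.xa 0)) (e.symm (.xa 0) * e.symm (.a 1))).1 h
    simp only [map_mul, e.apply_symm_apply] at this
    revert this; decide

theorem Qd.genC {R : Subgroup G} {z : G} (h : Qd R z) {x y g : G} (hx : x ∈ R) (hy : y ∈ R) (hn : x * y ≠ y * x)
    (h1 : x * g = g * x) (h2 : y * g = g * y) (h3 : z * g = g * z) : g ∈ (𝐂 R) := fun q hq => by
  obtain ⟨r, e1, e2⟩ := h.gen x hx y hy hn q hq
  have : Commute r g := by
    rcases e2 with e | e | e | e <;> rw [e]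
    exacts [Commute.one_left g, h1, h2, Commute.mul_left h1 h2]
  rcases e1 with e | e <;> rw [← e]
  exacts [this, Commute.mul_left h3 this]

theorem Qd.inner {R : Subgroup G} {z : G} (h : Qd R z) (cz : ∀ g, z * g = g * z) {w : G}
    (hw : ∀ x ∈ R, x * w = w * x ∨ x * w = z * (w * x)) : ∃ q ∈ R, q⁻¹ * w ∈ (𝐂 R) := by
  obtain ⟨i, hi, j, hj, hn⟩ := h.ex
  have ij := (h.cm i hi j hj).resolve_left hn
  have ji := (h.cm j hj i hi).resolve_left (Ne.symm hn)
  have k0 : ∀ x q : G, x * q = q * x → x * w = w * x → x * (q⁻¹ * w) = q⁻¹ * w * x := fun x q e1 e2 =>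
    Commute.mul_right (Commute.inv_right e1) e2
  have k1 : ∀ x q : G, x * q = z * (q * x) → x * w = z * (w * x) → x * (q⁻¹ * w) = q⁻¹ * w * x := fun x q e1 e2 => by
    calc x * (q⁻¹ * w) = q⁻¹ * (z⁻¹ * (z * (q * x))) * q⁻¹ * w := by group
      _ = q⁻¹ * z⁻¹ * (x * w) := by rw [← e1]; group
      _ = q⁻¹ * z⁻¹ * z * (w * x) := by rw [e2]; group
      _ = _ := by group
  rcases hw i hi with e1 | e1 <;> rcases hw j hj with e2 | e2
  · exact ⟨1, one_mem _, h.genC hi hj hn (k0 _ _ (by simp) e1) (k0 _ _ (by simp) e2) (cz _)⟩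
  · exact ⟨i, hi, h.genC hi hj hn (k0 _ _ rfl e1) (k1 _ _ ji e2) (cz _)⟩
  · exact ⟨j, hj, h.genC hi hj hn (k1 _ _ ij e1) (k0 _ _ rfl e2) (cz _)⟩
  · refine ⟨i * j, mul_mem hi hj, h.genC hi hj hn (k1 _ _ ?_ e1) (k1 _ _ ?_ e2) (cz _)⟩
    · nth_rewrite 1 [ij]; rw [← mul_assoc, ← cz]; group
    · rw [← mul_assoc, ji]; group

theorem quat_prod (hG : IsPGroup 2 G) {Q₁ Q₂ : Subgroup G} {z : G} (h₁ : Qd Q₁ z) (h₂ : Qd Q₂ z)
    (hc : ∀ a ∈ Q₁, ∀ b ∈ Q₂, a * b = b * a) (hC : (𝐂 (Q₁ ⊔ Q₂)) ≤ Q₁ ⊔ Q₂) : SR 16 (⊤ : Subgroup G) := by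
  haveI := fact_two
  by_cases e : ∀ N : Subgroup G, N.Normal → (∀ a ∈ N, a * a = 1) → Nat.card N ≤ 4
  · exact macWilliams hG e
  push Not at e
  obtain ⟨N, nN, sN, cN⟩ := e
  obtain ⟨W, nW, WN, cW⟩ := PGrp.exists_normal_le_card_eq hG N 3
    (PGrp.pow_succ_le_card_of_lt (k := 2) (hG.to_subgroup N) cN)
  have h : E8 W := ⟨hG, nW, fun w hw => sN w (WN hw), cW⟩
  have zz := h₁.zz
  have mem : ∀ x ∈ Q₁ ⊔ Q₂, ∃ a ∈ Q₁, ∃ b ∈ Q₂, a * b = x := fun x hx =>
    (mem_sup_of_le_normalizer_left fun b hb => mem_normalizer_of_conj_mem fun a ha => by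
      rw [← hc a ha b hb, mul_inv_cancel_right]; exact ha).1 hx
  have both : ∀ a ∈ Q₁, ∀ b ∈ Q₂, a * a = 1 → b * b = 1 → a * b ∈ zpowers z := fun a ha b hb e1 e2 => by
    refine mul_mem ?_ ?_
    · rcases h₁.sq a ha e1 with e | e <;> rw [e]; exacts [one_mem _, mem_zpowers z]
    · rcases h₂.sq b hb e2 with e | e <;> rw [e]; exacts [one_mem _, mem_zpowers z]
  have cen : ∀ x ∈ (𝐂 Q₁), x ∈ (𝐂 Q₂) → x ∈ zpowers z := fun x e1 e2 => by
    obtain ⟨a, ha, b, hb, rfl⟩ := mem x (hC (by rw [centralizer_sup]; exact ⟨e1, e2⟩))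
    refine both a ha b hb (h₁.cen a ha fun y hy => mul_right_cancel (b := b) ?_)
      (h₂.cen b hb fun y hy => mul_left_cancel (a := a) ?_)
    · rw [mul_assoc, hc y hy b hb, ← mul_assoc, ← e1 y hy, mul_assoc]
    · rw [← mul_assoc, ← e2 y hy, ← mul_assoc, ← hc a ha y hy, mul_assoc]
  obtain ⟨z', zW, zc, zo⟩ := PGrp.exists_central_orderOf_eq hG W fun e => by
    rw [e, card_bot] at cW; omega
  obtain rfl : z' = z := (zp2 zz (cen z' (fun g _ => mem_center_iff.1 zc g) fun g _ => mem_center_iff.1 zc g)).resolve_left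
    fun e => by rw [e, orderOf_one] at zo; omega
  have cz : ∀ g, z' * g = g * z' := fun g => (mem_center_iff.1 zc g).symm
  have act : ∀ γ : G, (γ * γ = 1 ∨ γ * γ = z') → (∀ δ ∈ Q₁, δ * γ = γ * δ ∨ δ * γ = z' * (γ * δ)) →
      (∀ δ ∈ Q₂, δ * γ = γ * δ ∨ δ * γ = z' * (γ * δ)) → ∀ w ∈ W, γ * w = w * γ ∨ γ * w = z' * (w * γ) :=
    fun γ g2 d1 d2 w hw => by
      refine or_iff_not_imp_left.2 fun hn => ?_
      have gD : γ * γ ∈ (𝐂 W) := by rcases g2 with e | e <;> rw [e]; exacts [one_mem _, h.WD zW]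
      have n1 : γ * w * γ⁻¹ * w⁻¹ ≠ 1 := fun e => hn (by rwa [mul_inv_eq_one, mul_inv_eq_iff_eq_mul] at e)
      have key : ∀ δ : G, (δ * γ = γ * δ ∨ δ * γ = z' * (γ * δ)) →
          δ * (γ * w * γ⁻¹ * w⁻¹) = γ * w * γ⁻¹ * w⁻¹ * δ := fun δ hd => by
        have e : δ * (γ * w * γ⁻¹ * w⁻¹) * δ⁻¹ = γ * (δ * w * δ⁻¹) * γ⁻¹ * (δ * w * δ⁻¹)⁻¹ := by
          calc _ = (δ * γ) * w * (δ * γ)⁻¹ * (δ * w * δ⁻¹)⁻¹ := by group
            _ = _ := by
              rcases hd with e | e <;> rw [e]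
              · group
              · rw [show z' * (γ * δ) * w * (z' * (γ * δ))⁻¹ = z' * (γ * δ * w * (γ * δ)⁻¹) * z'⁻¹ by group, cz]
                group
        rw [← mul_inv_eq_iff_eq_mul, e]
        refine h.comm_eq gD (nW.conj_mem _ hw δ) hw (fun e' => n1 ?_) fun e' => hn (mem_c.1 e').symm
        rw [← mem_c.1 e'] at e
        simpa using e
      have := (zp2 zz (cen _ (fun δ hd => key δ (d1 δ hd)) fun δ hd => key δ (d2 δ hd))).resolve_left n1
      rw [← this]; group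
  have WQ : ∀ w ∈ W, ∃ a ∈ Q₁, ∃ b ∈ Q₂, a * b = w := fun w hw => by
    obtain ⟨a, ha, e1⟩ := h₁.inner cz fun x hx => act x (h₁.sq' x hx) (fun δ hd => h₁.cm δ hd x hx)
      (fun δ hd => .inl (hc x hx δ hd).symm) w hw
    obtain ⟨b, hb, e2⟩ := h₂.inner cz (w := a⁻¹ * w) fun x hx => by
      have c := (hc _ (inv_mem ha) x hx).symm
      rcases act x (h₂.sq' x hx) (fun δ hd => .inl (hc δ hd x hx)) (fun δ hd => h₂.cm δ hd x hx) w hw with e | e
      · left; rw [← mul_assoc, c, mul_assoc, e, mul_assoc]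
      · right; rw [← mul_assoc, c, mul_assoc, e, ← mul_assoc, ← cz]; group
    have e3 := cen _ (mul_mem (inv_mem (show b ∈ (𝐂 Q₁) from fun y hy => hc y hy b hb)) e1) e2
    exact ⟨a, ha, b * (b⁻¹ * (a⁻¹ * w)), mul_mem hb (zpowers_le.2 h₂.zR e3), by group⟩
  have sqm : ∀ a ∈ Q₁, ∀ b ∈ Q₂, a * b * (a * b) = a * a * (b * b) := fun a ha b hb => by
    rw [mul_assoc, ← mul_assoc b, ← hc a ha b hb]; group
  have dec : ∀ a ∈ Q₁, ∀ b ∈ Q₂, a * b ∈ W → a * b ∉ zpowers z' → a * a = z' ∧ b * b = z' := fun a ha b hb e1 e2 => by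
    have := h.sq _ e1
    rw [sqm a ha b hb] at this
    rcases h₁.sq' a ha with f1 | f1 <;> rcases h₂.sq' b hb with f2 | f2
    · exact absurd (both a ha b hb f1 f2) e2
    · exact absurd (by simpa [f1, f2] using this) h₁.z1
    · exact absurd (by simpa [f1, f2] using this) h₁.z1
    · exact ⟨f1, f2⟩
  obtain ⟨u, hu, hu'⟩ : ∃ u ∈ W, u ∉ zpowers z' := by
    by_contra! e
    have := (card_mono (show W ≤ _ from e)).trans (card_zp2 zz)
    omega
  obtain ⟨v, hv, hv'⟩ : ∃ v ∈ W, v ∉ zpowers z' ⊔ zpowers u := by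
    by_contra! e
    have := card_mono (show W ≤ _ from e)
    have := Nat.le_of_dvd (Nat.mul_pos Nat.card_pos Nat.card_pos) (card_sup_dvd' (H := zpowers z') (K := zpowers u)
      (zpowers_le.2 (mem_normalizer_zpowers_of_commute (cz u).symm)))
    have := card_zp2 (h.sq u hu)
    have := card_zp2 zz
    nlinarith
  obtain ⟨x₁, m1, x₂, m2, rfl⟩ := WQ u hu
  obtain ⟨y₁, n1, y₂, n2, rfl⟩ := WQ v hv
  obtain ⟨a1, a2⟩ := dec _ m1 _ m2 hu hu'
  obtain ⟨b1, b2⟩ := dec _ n1 _ n2 hv fun e => hv' (mem_sup_left e)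
  have pr : x₁ * x₂ * (y₁ * y₂) = x₁ * y₁ * (x₂ * y₂) := by
    rw [mul_assoc, ← mul_assoc x₂, ← hc _ n1 _ m2]; group
  obtain ⟨c1, c2⟩ := dec _ (mul_mem m1 n1) _ (mul_mem m2 n2) (pr ▸ mul_mem hu hv) fun e => hv' (by
    have := mul_mem (inv_mem (mem_sup_right (mem_zpowers (x₁ * x₂)))) (mem_sup_left (T := zpowers (x₁ * x₂)) (pr ▸ e))
    rwa [inv_mul_cancel_left] at this)
  have d1 : x₁ * y₁ ≠ y₁ * x₁ := fun e => h₁.z1 (c1 ▸ h₁.cm2 _ m1 _ n1 a1 b1 e)
  have d2 : x₂ * y₂ ≠ y₂ * x₂ := fun e => h₁.z1 (c2 ▸ h₂.cm2 _ m2 _ n2 a2 b2 e)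
  have f1 := (h₁.cm _ m1 _ n1).resolve_left d1
  have f2 := (h₂.cm _ n2 _ m2).resolve_left (Ne.symm d2)
  refine II.sr (z := z') (γ := x₁ * y₂) (δ := y₁ * (x₂ * y₂)) ⟨h, zW, cz, by rw [sqm _ m1 _ n2, a1, b2, zz],
    by rw [sqm _ n1 _ (mul_mem m2 n2), b1, c2, zz], ?_, fun x hx e1 e2 => ?_⟩
  · calc x₁ * y₂ * (y₁ * (x₂ * y₂)) = x₁ * (y₂ * y₁) * (x₂ * y₂) := by group
      _ = (x₁ * y₁) * (y₂ * x₂) * y₂ := by rw [← hc _ n1 _ n2]; group
      _ = z' * (y₁ * x₁ * z') * (x₂ * y₂) * y₂ := by rw [f1, f2]; group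
      _ = y₁ * (x₁ * (x₂ * y₂)) * y₂ := by rw [← cz, ← mul_assoc z' z', zz]; group
      _ = _ := by rw [hc _ m1 _ (mul_mem m2 n2)]; group
  · have g1 : Commute x (x₁ * x₂) := (hx _ hu).symm
    have g2 : Commute x (y₁ * y₂) := (hx _ hv).symm
    have g3 : Commute x (x₁ * y₂) := e1
    have g4 : Commute x (y₁ * (x₂ * y₂)) := e2
    have g5 : Commute x x₂ := by
      have := g4.mul_right g2.inv_right
      rwa [show y₁ * (x₂ * y₂) * (y₁ * y₂)⁻¹ = y₁ * x₂ * y₁⁻¹ by group, hc _ n1 _ m2, mul_inv_cancel_right] at this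
    have g6 : Commute x x₁ := by simpa using g1.mul_right g5.inv_right
    have g7 : Commute x y₂ := by simpa using g6.inv_right.mul_right g3
    have g8 : Commute x y₁ := by simpa using g2.mul_right g7.inv_right
    exact cen x (h₁.genC m1 n1 d1 g6.symm g8.symm (cz x)) (h₂.genC m2 n2 d2 g5.symm g7.symm (cz x))

end Cfsg.Lib.SRank
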