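import Cfsg.Agent.Lib.SRank.Basic
import Cfsg.Agent.S0130

/-! Towards the four generator theorem: a maximal normal abelian subgroup of exponent 4. -/

set_option autoImplicit false
set_option linter.unusedSectionVars false

namespace Cfsg.Lib.SRank

open Subgroup Cfsg.Lib.Invol Cfsg.Lib.Core

variable {G : Type*} [Group G] [Finite G]

local notation "𝐂" A => centralizer ((A : Subgroup G) : Set G)

theorem rel_pow (hG : IsPGroup 2 G) (K H : Subgroup G) : ∃ n, K.relIndex H = 2 ^ n := by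
  haveI := fact_two
  exact (hG.to_subgroup H).index _

theorem rel_le_of_lt (hG : IsPGroup 2 G) {K H : Subgroup G} {k : ℕ} (h : K.relIndex H < 2 ^ (k + 1)) :
    K.relIndex H ≤ 2 ^ k := by
  obtain ⟨n, hn⟩ := rel_pow hG K H
  rw [hn] at h ⊢
  exact Nat.pow_le_pow_right two_pos (Nat.lt_succ_iff.1 ((Nat.pow_lt_pow_iff_right one_lt_two).1 h))

/-- the basic identity for a section -/
theorem rel_id (K C H : Subgroup G) :
    K.relIndex H * C.relIndex (K ⊓ H) = K.relIndex (C ⊓ H) * C.relIndex H := by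
  rw [mul_comm, relIndex_inf_mul_relIndex, relIndex_inf_mul_relIndex, inf_comm]

theorem rel_le_finset {M : Type*} {K H : Subgroup G} (f : G → M) (s : Finset M) (hs : ∀ a ∈ H, f a ∈ s)
    (hf : ∀ a ∈ H, ∀ b ∈ H, f a = f b → a⁻¹ * b ∈ K) : K.relIndex H ≤ s.card := by
  have := rel_le_card (K := K) (H := H) (ι := s) (fun a => ⟨f a, hs a a.2⟩)
    fun a b e => hf a a.2 b b.2 (congrArg Subtype.val e)
  simpa using this

structure AB (B U : Subgroup G) : Prop where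
  two : IsPGroup 2 G
  nrm : B.Normal
  comm : ∀ a ∈ B, ∀ b ∈ B, a * b = b * a
  four : ∀ b ∈ B, b ^ 4 = 1
  alp : ∀ x ∈ (𝐂 B), x ^ 4 = 1 → x ∈ B
  memU : ∀ x, x ∈ U ↔ x ∈ B ∧ x * x = 1
  small : ∀ A : Subgroup G, A.Normal → (∀ a ∈ A, a * a = 1) → Nat.card A ≤ 4

theorem exists_AB (hG : IsPGroup 2 G)
    (h : ∀ A : Subgroup G, A.Normal → (∀ a ∈ A, a * a = 1) → Nat.card A ≤ 4) : ∃ B U : Subgroup G, AB B U := by
  haveI := fact_two
  obtain ⟨B, -, ⟨hn, hc, he⟩, hmax⟩ := exists_maximal_ge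
    (fun B : Subgroup G => B.Normal ∧ IsMulCommutative B ∧ ∀ b ∈ B, b ^ 2 ^ 2 = 1) (H := ⊥)
    ⟨inferInstance, inferInstance, fun b hb => by rw [mem_bot.1 hb, one_pow]⟩
  have hc' : ∀ a ∈ B, ∀ b ∈ B, a * b = b * a := fun a ha b hb =>
    congrArg Subtype.val (hc.is_comm.comm (⟨a, ha⟩ : B) ⟨b, hb⟩)
  refine ⟨B, ⟨⟨⟨{x | x ∈ B ∧ x * x = 1}, ?_⟩, ⟨one_mem _, mul_one _⟩⟩, ?_⟩, hG, hn, hc', he,
    fun x hx h4 => Cfsg.Agent.S0130.result hG 2 (by norm_num) B hc he (fun D h1 h2 h3 h4 => hmax D ⟨h1, h2, h3⟩ h4)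
      x hx h4, fun _ => Iff.rfl, h⟩
  · rintro a b ⟨ha, h1⟩ ⟨hb, h2⟩
    refine ⟨mul_mem ha hb, ?_⟩
    calc a * b * (a * b) = a * (b * a) * b := by group
      _ = (a * a) * (b * b) := by rw [← hc' a ha b hb]; group
      _ = 1 := by rw [h1, h2, one_mul]
  · rintro a ⟨ha, h1⟩
    exact ⟨inv_mem ha, by rw [← mul_inv_rev, h1, inv_one]⟩

/-- only elements of order at most two of `B` are inverted by `x` -/
def Sing (B : Subgroup G) (x : G) : Prop := ∀ b ∈ B, x * b * x⁻¹ = b⁻¹ → b * b = 1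

/-- only elements of order at most two of `B` are fixed by `x` -/
def Free (B : Subgroup G) (x : G) : Prop := ∀ b ∈ B, x * b * x⁻¹ = b → b * b = 1

namespace AB

variable {B U : Subgroup G} (h : AB B U)
include h

theorem UB : U ≤ B := fun x hx => ((h.memU x).1 hx).1
theorem sqU {x : G} (hx : x ∈ U) : x * x = 1 := ((h.memU x).1 hx).2
theorem BC : B ≤ (𝐂 B) := fun a ha b hb => h.comm b hb a ha
theorem CU : (𝐂 B) ≤ (𝐂 U) := centralizer_le (by exact_mod_cast h.UB)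
theorem Un : U.Normal := ⟨fun x hx g => (h.memU _).2 ⟨h.nrm.conj_mem _ (h.UB hx) g, by
  calc g * x * g⁻¹ * (g * x * g⁻¹) = g * (x * x) * g⁻¹ := by group
    _ = 1 := by rw [h.sqU hx]; group⟩⟩
theorem Cn : (𝐂 B).Normal := by haveI := h.nrm; infer_instance
theorem cardU : Nat.card U ≤ 4 := h.small U h.Un fun _ hx => h.sqU hx
theorem idx : (𝐂 U).index ≤ 2 := by
  haveI := fact_two; haveI := h.Un
  exact PGrp.index_centralizer_le_of_card_le_sq h.two U h.cardU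
theorem sq_mem {b : G} (hb : b ∈ B) : b * b ∈ U :=
  (h.memU _).2 ⟨mul_mem hb hb, by rw [← h.four b hb]; simp only [pow_succ, pow_zero, one_mul, mul_assoc]⟩

theorem aux (P : G → Prop) (hP : ∀ c, P c → P (c * c)) (hB : ∀ b ∈ B, P b → b * b = 1) {c : G} (hc : c ∈ (𝐂 B))
    (hPc : P c) : c ∈ U := by
  obtain ⟨k, hk⟩ := h.two c
  induction k generalizing c with
  | zero => rw [pow_zero, pow_one] at hk; exact hk ▸ one_mem _
  | succ k ih =>
    have h1 := ih (mul_mem hc hc) (hP c hPc) (by rw [← hk, ← sq, ← pow_mul, pow_succ'])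
    have h2 : c ∈ B := h.alp c hc (by rw [← h.sqU h1]; simp only [pow_succ, pow_zero, one_mul, mul_assoc])
    exact (h.memU c).2 ⟨h2, hB c h2 hPc⟩

theorem inv_mem_U {x c : G} (hx : Sing B x) (hc : c ∈ (𝐂 B)) (e : x * c * x⁻¹ = c⁻¹) : c ∈ U :=
  h.aux (fun c => x * c * x⁻¹ = c⁻¹) (fun c e => by
    calc x * (c * c) * x⁻¹ = (x * c * x⁻¹) * (x * c * x⁻¹) := by group
      _ = _ := by rw [e]; group) hx hc e

theorem fix_mem_U {x c : G} (hx : Free B x) (hc : c ∈ (𝐂 B)) (e : x * c * x⁻¹ = c) : c ∈ U :=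
  h.aux (fun c => x * c * x⁻¹ = c) (fun c e => by
    calc x * (c * c) * x⁻¹ = (x * c * x⁻¹) * (x * c * x⁻¹) := by group
      _ = _ := by rw [e]) hx hc e

omit h in
theorem sing_mul {x c : G} (hx : Sing B x) (hc : c ∈ (𝐂 B)) : Sing B (x * c) := fun b hb e => hx b hb (by
  rw [← e, mul_inv_rev, mul_assoc x c b, ← hc b hb]; group)

theorem sing_one : Sing B 1 := fun b _ e => by
  rw [one_mul, inv_one, mul_one] at e; nth_rewrite 1 [e]; group

/-- equal squares in a singular coset -/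
theorem sq_fib {x c d : G} (hx : Sing B x) (hc : c ∈ (𝐂 B)) (hd : d ∈ (𝐂 B))
    (e : x * c * (x * c) = x * d * (x * d)) : c⁻¹ * d ∈ U := by
  refine h.inv_mem_U (sing_mul hx hc) (mul_mem (inv_mem hc) hd) ?_
  have : x * d = (x * c) * (c⁻¹ * d) := by group
  rw [this] at e
  generalize x * c = y at e ⊢
  generalize c⁻¹ * d = w at e ⊢
  have e2 : y = w * y * w := mul_left_cancel (a := y) (by rw [e]; group)
  have e3 : y * w⁻¹ * y⁻¹ = w := by nth_rewrite 1 [e2]; group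
  calc y * w * y⁻¹ = (y * w⁻¹ * y⁻¹)⁻¹ := by group
    _ = _ := by rw [e3]

theorem count {H K : Subgroup G} {x : G} (hx : Sing B x) (s : Set G) (hs : s ⊆ ((K ⊓ ((𝐂 B) ⊓ H) : Subgroup G) : Set G))
    (hm : ∀ c ∈ (𝐂 B) ⊓ H, x * c * (x * c) ∈ s) :
    K.relIndex ((𝐂 B) ⊓ H) * Nat.card ↥(K ⊓ ((𝐂 B) ⊓ H)) ≤ 4 * Nat.card s := by
  have h1 : U.relIndex ((𝐂 B) ⊓ H) ≤ Nat.card s :=
    rel_le_card (fun c => (⟨_, hm c c.2⟩ : s)) fun a b e => h.sq_fib hx a.2.1 b.2.1 (congrArg Subtype.val e)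
  rw [mul_comm, card_inf_mul_relIndex, ← card_inf_mul_relIndex U]
  exact Nat.mul_le_mul ((card_mono inf_le_left).trans h.cardU) h1

theorem rho_le {H K : Subgroup G} (hK : ∀ x ∈ H, x * x ∈ K) : K.relIndex ((𝐂 B) ⊓ H) ≤ 4 := by
  have := h.count (H := H) (K := K) h.sing_one _ subset_rfl fun c hc => by
    rw [one_mul]; exact ⟨hK c hc.2, mul_mem hc hc⟩
  exact Nat.le_of_mul_le_mul_right this Nat.card_pos

/-- if the section is large on the centralizer then a singular coset contains an element of order at most two -/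
theorem exists_inv {H K : Subgroup G} (hK : ∀ x ∈ H, x * x ∈ K) (h4 : 2 < K.relIndex ((𝐂 B) ⊓ H)) {x : G}
    (hx : Sing B x) (hH : x ∈ H) (h2 : x * x ∈ (𝐂 B)) : ∃ c ∈ (𝐂 B), x * c * (x * c) = 1 := by
  classical
  by_contra! hne
  have := h.count (H := H) (K := K) hx ((K ⊓ ((𝐂 B) ⊓ H) : Subgroup G) \ {1}) Set.sdiff_subset fun c hc => by
    refine ⟨⟨hK _ (mul_mem hH hc.2), ?_, mul_mem (mul_mem hH hc.2) (mul_mem hH hc.2)⟩, hne c hc.1⟩
    have := mul_mem (mul_mem (h.Cn.conj_mem _ hc.1 x) h2) hc.1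
    rw [show x * c * (x * c) = x * c * x⁻¹ * (x * x) * c by group]
    exact this
  have h3 : Nat.card ↥(((K ⊓ ((𝐂 B) ⊓ H) : Subgroup G) : Set G) \ {1}) < Nat.card ↥(K ⊓ ((𝐂 B) ⊓ H)) := by
    rw [Nat.card_coe_set_eq, ← SetLike.coe_sort_coe, Nat.card_coe_set_eq]
    exact Set.ncard_lt_ncard (Set.sdiff_singleton_ssubset.2 (one_mem _))
  have h5 : 4 ≤ K.relIndex ((𝐂 B) ⊓ H) := by
    by_contra! hl
    exact absurd (rel_le_of_lt h.two (k := 1) hl) (by omega)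
  nlinarith

/-- the final count -/
theorem finish {H K : Subgroup G}
    (h1 : K.relIndex ((𝐂 B) ⊓ H) * (𝐂 B).relIndex ((𝐂 U) ⊓ H) ≤ 16)
    (h2 : K ⊓ H ≤ (𝐂 B) → ∀ s ∈ H, s ∉ (𝐂 U) → K.relIndex ((𝐂 B) ⊓ H) * (𝐂 B).relIndex ((𝐂 U) ⊓ H) ≤ 8) :
    K.relIndex H ≤ 16 := by
  have e := rel_id K (𝐂 B) H
  have e2 : (𝐂 B).relIndex H = (𝐂 B).relIndex ((𝐂 U) ⊓ H) * (𝐂 U).relIndex H := by
    rw [relIndex_inf_mul_relIndex, inf_eq_left.2 h.CU]
  have e3 : (𝐂 U).relIndex H ≤ 2 := (PGrp.relIndex_le_index _ _).trans h.idx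
  have e4 := rel_ne (𝐂 B) (K ⊓ H)
  rw [e2, ← mul_assoc] at e
  generalize K.relIndex ((𝐂 B) ⊓ H) * (𝐂 B).relIndex ((𝐂 U) ⊓ H) = n at *
  by_cases hk : K ⊓ H ≤ (𝐂 B)
  · rw [relIndex_eq_one.2 hk, mul_one] at e
    by_cases hH : H ≤ (𝐂 U)
    · rw [e, relIndex_eq_one.2 hH]; omega
    · obtain ⟨s, hs, hs'⟩ := SetLike.not_le_iff_exists.1 hH
      have := h2 hk s hs hs'
      rw [e]; nlinarith
  · have : (𝐂 B).relIndex (K ⊓ H) ≠ 1 := fun e => hk (relIndex_eq_one.1 e)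
    have : 2 ≤ (𝐂 B).relIndex (K ⊓ H) := by omega
    nlinarith

theorem comm_mem_U {k b : G} (hk : k ∈ (𝐂 U)) (hb : b ∈ B) : k * b * k⁻¹ * b⁻¹ ∈ U := by
  have h1 := h.nrm.conj_mem _ hb k
  refine (h.memU _).2 ⟨mul_mem h1 (inv_mem hb), ?_⟩
  have h2 := hk _ (h.sq_mem hb)
  have h3 := h.comm _ h1 _ (inv_mem hb)
  calc k * b * k⁻¹ * b⁻¹ * (k * b * k⁻¹ * b⁻¹) = (k * b * k⁻¹) * (b⁻¹ * (k * b * k⁻¹)) * b⁻¹ := by group
    _ = k * (b * b) * k⁻¹ * (b * b)⁻¹ := by rw [← h3]; group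
    _ = 1 := by rw [← h2]; group

/-- the easy case: `U` has index at most two in `B` -/
theorem easy {b : G} (hb : b ∈ B) (hB : ∀ x ∈ B, x ∈ U ∨ b⁻¹ * x ∈ U) : SR 16 (⊤ : Subgroup G) := by
  intro H _ K hK
  have key : ∀ T : Subgroup G, (∀ k ∈ (𝐂 U) ⊓ H, k * b * k⁻¹ * b⁻¹ ∈ T) →
      (𝐂 B).relIndex ((𝐂 U) ⊓ H) ≤ Nat.card T := fun T hT =>
    rel_le_card (fun k => (⟨_, hT k k.2⟩ : T)) fun k l e => by
      have e : (k : G) * b * (k : G)⁻¹ * b⁻¹ = l * b * (l : G)⁻¹ * b⁻¹ := congrArg Subtype.val e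
      have e1 : b * ((k : G)⁻¹ * l) = (k : G)⁻¹ * l * b := by
        calc b * ((k : G)⁻¹ * l) = (k : G)⁻¹ * (k * b * (k : G)⁻¹ * b⁻¹) * b * l := by group
          _ = _ := by rw [e]; group
      have e2 := mul_mem (inv_mem (mem_inf.1 k.2).1) (mem_inf.1 l.2).1
      intro x hx
      rcases hB x hx with h1 | h1
      · exact e2 x h1
      · have := e2 _ h1
        calc x * ((k : G)⁻¹ * l) = b * (b⁻¹ * x * ((k : G)⁻¹ * l)) := by group
          _ = b * ((k : G)⁻¹ * l) * (b⁻¹ * x) := by rw [this]; group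
          _ = _ := by rw [e1]; group
  have r := h.rho_le hK
  refine h.finish ?_ fun hk s hs hs' => ?_
  · have := (key U fun k hk => h.comm_mem_U hk.1 hb).trans h.cardU
    nlinarith
  · have h1 := key (U ⊓ centralizer {s}) fun k hk' => by
      rw [mem_inf] at hk'
      refine ⟨h.comm_mem_U hk'.1 hb, mem_centralizer_singleton_iff.2 ?_⟩
      have c1 : s * k * s⁻¹ * k⁻¹ ∈ (𝐂 B) := hk (mem_inf.2 ⟨comm_mem hK hs hk'.2,
        mul_mem (mul_mem (mul_mem hs hk'.2) (inv_mem hs)) (inv_mem hk'.2)⟩)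
      have c2 := c1 _ (h.nrm.conj_mem _ hb k)
      have b1 := h.nrm.conj_mem _ hb s⁻¹
      have c3 : k * (s⁻¹ * b * s) * k⁻¹ * (s⁻¹ * b * s)⁻¹ = k * b * k⁻¹ * b⁻¹ := by
        rw [inv_inv] at b1
        rcases hB _ b1 with h2 | h2
        · have h3 : b ∈ U := by simpa [mul_assoc] using h.Un.conj_mem _ h2 s
          rw [← hk'.1 _ h2, ← hk'.1 _ h3]; group
        · have := hk'.1 _ h2
          calc k * (s⁻¹ * b * s) * k⁻¹ * (s⁻¹ * b * s)⁻¹
              = k * b * k⁻¹ * (k * (b⁻¹ * (s⁻¹ * b * s))) * k⁻¹ * (s⁻¹ * b * s)⁻¹ := by group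
            _ = _ := by rw [← this]; group
      nth_rewrite 2 [← c3]
      calc k * b * k⁻¹ * b⁻¹ * s = (k * b * k⁻¹ * (s * k * s⁻¹ * k⁻¹)) * (s * k * s⁻¹ * k⁻¹)⁻¹ * b⁻¹ * s := by group
        _ = _ := by rw [c2]; group
    have h2 : Nat.card ↥(U ⊓ centralizer {s}) ≤ 2 := by
      haveI := fact_two
      have : U ⊓ centralizer {s} < U := lt_of_le_of_ne inf_le_left fun e => hs' fun u hu => by
        have := (inf_eq_left.1 e) hu
        exact (mem_centralizer_singleton_iff.1 this)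
      have := PGrp.mul_card_le_of_lt (h.two.to_subgroup U) this
      have := h.cardU
      omega
    nlinarith

end AB

end Cfsg.Lib.SRank
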